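import Groth.Agent.UnivOpenFin5.FiniteExtend
import Mathlib.AlgebraicGeometry.ZariskisMainTheorem

/-!
# Separated quasi-finite morphisms are open in finite ones (qcqs base)
-/

set_option autoImplicit false
set_option linter.style.haveILetI false
set_option backward.isDefEq.respectTransparency false
set_option backward.isDefEq.respectTransparency.types false

open CategoryTheory Limits AlgebraicGeometry TopologicalSpace Opposite

universe u

namespace Groth.Agent.LocImmLib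

open Groth.Agent.UnivOpenFin5 (genFunctor genStr genStr_coequifibered)

/-- A subring containing the numerators of generators localizes like the ring. -/
lemma isLocalization_away_subring {R A L : Type u} [CommRing R] [CommRing A] [CommRing L] [Algebra R A]
    [Algebra A L] [Algebra R L] [IsScalarTower R A L] (g : A) [IsLocalization.Away g L] (K : Subring A)
    (hR : ∀ r, algebraMap R A r ∈ K) (hg : g ∈ K) (gens : Set L) (hgen : Algebra.adjoin R gens = ⊤)
    (hnum : ∀ y ∈ gens, ∃ a ∈ K, ∃ n : ℕ, y * algebraMap A L g ^ n = algebraMap A L a) :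
    IsLocalization.Away (⟨g, hg⟩ : K) L := by
  have key : ∀ x : L, ∃ (b : K) (n : ℕ), x * algebraMap A L g ^ n = algebraMap A L b := by
    intro x
    have hx : x ∈ Algebra.adjoin R gens := by rw [hgen]; trivial
    induction hx using Algebra.adjoin_induction with
    | mem y hy => obtain ⟨a, ha, n, hn⟩ := hnum y hy; exact ⟨⟨a, ha⟩, n, hn⟩
    | algebraMap r =>
      exact ⟨⟨_, hR r⟩, 0, by rw [pow_zero, mul_one]; exact IsScalarTower.algebraMap_apply R A L r⟩
    | add x y _ _ hx hy =>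
      obtain ⟨b, n, hb⟩ := hx; obtain ⟨c, m, hc⟩ := hy
      refine ⟨b * ⟨g, hg⟩ ^ m + c * ⟨g, hg⟩ ^ n, n + m, ?_⟩
      show _ = algebraMap A L ((b : A) * g ^ m + (c : A) * g ^ n)
      rw [map_add, map_mul, map_mul, map_pow, map_pow, ← hb, ← hc]
      ring
    | mul x y _ _ hx hy =>
      obtain ⟨b, n, hb⟩ := hx; obtain ⟨c, m, hc⟩ := hy
      exact ⟨b * c, n + m, by show _ = algebraMap A L ((b : A) * (c : A)); rw [map_mul, ← hb, ← hc]; ring⟩
  refine ⟨?_, fun x => ?_, fun {a b} h => ?_⟩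
  · rintro ⟨_, n, rfl⟩
    show IsUnit (algebraMap A L (g ^ n))
    rw [map_pow]
    exact (IsLocalization.Away.algebraMap_isUnit g).pow n
  · obtain ⟨b, n, hb⟩ := key x
    refine ⟨⟨b, ⟨_, n, rfl⟩⟩, ?_⟩
    show x * algebraMap A L (g ^ n) = algebraMap A L (b : A)
    rw [map_pow, hb]
  · obtain ⟨⟨_, n, rfl⟩, hn⟩ := IsLocalization.exists_of_eq (M := Submonoid.powers g) (S := L)
      (show algebraMap A L (a : A) = algebraMap A L (b : A) from h)
    exact ⟨⟨_, n, rfl⟩, Subtype.ext hn⟩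

/-- An open of finite type in a scheme integral over a qcqs base is open in a finite one. -/
theorem exists_finite_intermediate {Y Y' : Scheme.{u}} [CompactSpace Y] [QuasiSeparatedSpace Y]
    (ν : Y' ⟶ Y) [IsIntegralHom ν] (O : Y'.Opens) (hO : IsCompact (O : Set Y'))
    [LocallyOfFiniteType (O.ι ≫ ν)] :
    ∃ (T : Scheme.{u}) (j : O.toScheme ⟶ T) (π : T ⟶ Y), IsOpenImmersion j ∧ IsFinite π ∧ j ≫ π = O.ι ≫ ν := by
  classical
  obtain ⟨F, hF⟩ := isCompact_univ.elim_finite_subcover (fun V : Y.affineOpens => (V.1 : Set Y))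
    (fun V => V.1.2) fun x _ => by
      obtain ⟨_, ⟨V, hV, rfl⟩, hxV, -⟩ := Y.isBasis_affineOpens.exists_subset_of_mem_open
        (Set.mem_univ x) isOpen_univ
      exact Set.mem_iUnion.2 ⟨⟨V, hV⟩, hxV⟩
  let B : RelSpec.QCAlg Y := RelSpec.QCAlg.directImage ν
  have hG := QCoh.isQCoh_toModule B
  -- on each chart, finitely many functions and their basic opens inside `O`
  have hchart : ∀ V : Y.affineOpens, ∃ t : Set Γ(Y', ν ⁻¹ᵁ V.1), t.Finite ∧
      (∀ g ∈ t, Y'.basicOpen g ≤ O) ∧ (∀ z ∈ O, z ∈ ν ⁻¹ᵁ V.1 → ∃ g ∈ t, z ∈ Y'.basicOpen g) := by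
    intro V
    have hW : IsAffineOpen (ν ⁻¹ᵁ V.1) := V.2.preimage ν
    haveI : QuasiSeparatedSpace Y' := quasiSeparatedSpace_of_quasiSeparated ν
    have hc : IsCompact ((O ⊓ ν ⁻¹ᵁ V.1 : Y'.Opens) : Set Y') :=
      QuasiSeparatedSpace.inter_isCompact _ _ O.isOpen hO (ν ⁻¹ᵁ V.1).isOpen hW.isCompact
    have hb : ∀ z : (O ⊓ ν ⁻¹ᵁ V.1 : Y'.Opens), ∃ g : Γ(Y', ν ⁻¹ᵁ V.1), Y'.basicOpen g ≤ O ∧ z.1 ∈ Y'.basicOpen g := fun z => by
      obtain ⟨g, hg, hzg⟩ := hW.exists_basicOpen_le ⟨z.1, z.2.1⟩ z.2.2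
      exact ⟨g, hg, hzg⟩
    choose g hgO hzg using hb
    obtain ⟨t, ht⟩ := hc.elim_finite_subcover (fun z => (Y'.basicOpen (g z) : Set Y')) (fun z => (Y'.basicOpen (g z)).isOpen)
      (fun z hz => Set.mem_iUnion.2 ⟨⟨z, hz⟩, hzg ⟨z, hz⟩⟩)
    refine ⟨g '' t, t.finite_toSet.image g, by rintro _ ⟨z, -, rfl⟩; exact hgO z, fun z hz hzV => ?_⟩
    obtain ⟨w, hw, hzw⟩ := Set.mem_iUnion₂.1 (ht ⟨hz, hzV⟩)
    exact ⟨g w, ⟨w, hw, rfl⟩, hzw⟩
  choose t htfin htO htcov using hchart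
  -- numerators of generators
  have hnum : ∀ (V : Y.affineOpens) (g : Γ(Y', ν ⁻¹ᵁ V.1)), g ∈ t V → ∃ s : Set Γ(Y', ν ⁻¹ᵁ V.1), s.Finite ∧ g ∈ s ∧
      ∀ K : Subring Γ(Y', ν ⁻¹ᵁ V.1), s ⊆ K → (∀ r, (ν.app V.1).hom r ∈ K) → ∀ (hgK : g ∈ K),
        letI : Algebra Γ(Y', ν ⁻¹ᵁ V.1) Γ(Y', Y'.basicOpen g) := (Y'.presheaf.map (homOfLE (Y'.basicOpen_le g)).op).hom.toAlgebra
        IsLocalization.Away (⟨g, hgK⟩ : K) Γ(Y', Y'.basicOpen g) := by
    intro V g hg
    have hW : IsAffineOpen (ν ⁻¹ᵁ V.1) := V.2.preimage ν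
    letI : Algebra Γ(Y', ν ⁻¹ᵁ V.1) Γ(Y', Y'.basicOpen g) := (Y'.presheaf.map (homOfLE (Y'.basicOpen_le g)).op).hom.toAlgebra
    haveI : IsLocalization.Away g Γ(Y', Y'.basicOpen g) := hW.isLocalization_basicOpen g
    letI : Algebra Γ(Y, V.1) Γ(Y', ν ⁻¹ᵁ V.1) := (ν.app V.1).hom.toAlgebra
    letI : Algebra Γ(Y, V.1) Γ(Y', Y'.basicOpen g) :=
      ((Y'.presheaf.map (homOfLE (Y'.basicOpen_le g)).op).hom.comp (ν.app V.1).hom).toAlgebra
    haveI : IsScalarTower Γ(Y, V.1) Γ(Y', ν ⁻¹ᵁ V.1) Γ(Y', Y'.basicOpen g) := IsScalarTower.of_algebraMap_eq fun _ => rfl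
    have hft : Algebra.FiniteType Γ(Y, V.1) Γ(Y', Y'.basicOpen g) := by
      have hD : IsAffineOpen (O.ι ⁻¹ᵁ Y'.basicOpen g) :=
        (hW.basicOpen g).preimage_of_isOpenImmersion O.ι (by rw [Scheme.Opens.opensRange_ι]; exact htO V g hg)
      have hle : O.ι ⁻¹ᵁ Y'.basicOpen g ≤ (O.ι ≫ ν) ⁻¹ᵁ V.1 := O.ι.preimage_mono (Y'.basicOpen_le g)
      have h := (O.ι ≫ ν).finiteType_appLE V.2 hD hle
      haveI : IsIso (O.ι.app (Y'.basicOpen g)) :=
        O.ι.isIso_app _ (by rw [Scheme.Opens.opensRange_ι]; exact htO V g hg)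
      have e : (O.ι ≫ ν).appLE V.1 _ hle =
          (ν.app V.1 ≫ Y'.presheaf.map (homOfLE (Y'.basicOpen_le g)).op) ≫ O.ι.app (Y'.basicOpen g) := by
        rw [← Scheme.Hom.appLE_comp_appLE O.ι ν V.1 (Y'.basicOpen g) _ (Y'.basicOpen_le g) le_rfl,
          Scheme.Hom.appLE, ← Scheme.Hom.app_eq_appLE]
      rw [e, CommRingCat.hom_comp, RingHom.finiteType_respectsIso.cancel_right_isIso] at h
      exact h
    obtain ⟨gens, hgens⟩ := hft.out
    let num : Γ(Y', Y'.basicOpen g) → Γ(Y', ν ⁻¹ᵁ V.1) := fun y => (IsLocalization.surj (Submonoid.powers g) y).choose.1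
    refine ⟨insert g (num '' gens), (gens.finite_toSet.image num).insert g, Set.mem_insert _ _, fun K hK hR hgK =>
      isLocalization_away_subring g K hR hgK _ hgens fun y hy => ⟨num y, hK (Or.inr ⟨y, hy, rfl⟩), ?_⟩⟩
    obtain ⟨n, hn⟩ := (IsLocalization.surj (Submonoid.powers g) y).choose.2.2
    refine ⟨n, ?_⟩
    have := (IsLocalization.surj (Submonoid.powers g) y).choose_spec
    rw [← hn, map_pow] at this
    exact this
  choose s hsfin hgs hs using hnum
  let S : ∀ V : Y.affineOpens, Set Γ(Y', ν ⁻¹ᵁ V.1) := fun V => ⋃ (g) (hg : g ∈ t V), s V g hg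
  have hSfin : ∀ V, (S V).Finite := fun V => (htfin V).biUnion' fun g hg => hsfin V g hg
  choose NV hNV hSN using fun V : F => QCoh.exists_ftOn_contains hG V.1.2 (QCoh.extStep_qcqs V.1.2.isCompact)
    (show Set Γ(B.toModule, V.1.1) from (S V.1 : Set (B.presheaf.obj (op V.1.1)))) (hSfin V.1)
  let N := QCoh.sumSub NV
  have hN : QCoh.FTOn N ⊤ := QCoh.ftOn_sumSub NV hNV
  let d := Scheme.AffineZariskiSite.relativeGluingData (genStr_coequifibered B N hN)
  haveI : (d.functor ⋙ Scheme.forget).IsLocallyDirected :=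
    Scheme.Cover.RelativeGluingData.instIsLocallyDirectedI₀CompFunctorForgetOfIsThin ..
  -- the structure morphism is finite
  have hπ : IsFinite d.toBase := by
    choose Vx hVx hxVx _ Tx hTx using fun x : Y => hN x trivial
    refine (IsZariskiLocalAtTarget.iff_of_iSup_eq_top (P := @IsFinite) Vx
      (eq_top_iff.2 fun x _ => Opens.mem_iSup.2 ⟨x, hxVx x⟩)).2 fun x => ?_
    let U : Y.AffineZariskiSite := ⟨Vx x, hVx x⟩
    have h2 := d.isPullback_natTrans_ι_toBase U
    refine (MorphismProperty.arrow_mk_iso_iff @IsFinite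
      (Arrow.isoMk ((isPullback_morphismRestrict d.toBase (Vx x)).flip.isoIsPullback _ _ h2.flip) (Iso.refl _)
        ((IsPullback.isoIsPullback_hom_snd _ _ _ _).trans (Category.comp_id _).symm))).2 ?_
    have hfin' : ((genStr B N).app (op U)).hom.Finite := by
      letI := (B.str.app (op (Vx x))).hom.toAlgebra
      let A : Subalgebra Γ(Y, Vx x) (B.presheaf.obj (op (Vx x))) :=
        { (QCoh.genRing B N (Vx x)).toSubsemiring with algebraMap_mem' := fun a => QCoh.str_mem_genRing B N a }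
      have hA : A = Algebra.adjoin Γ(Y, Vx x) (show Set (B.presheaf.obj (op (Vx x))) from Tx x) := by
        refine le_antisymm (fun b (hb : b ∈ QCoh.genRing B N (Vx x)) => ?_) (Algebra.adjoin_le fun t ht =>
          Subring.subset_closure (Or.inr ((hTx x).mem t ht)))
        induction hb using Subring.closure_induction with
        | mem y hy =>
          rcases hy with ⟨a, rfl⟩ | hy
          · exact Subalgebra.algebraMap_mem _ a
          · have h3 := (hTx x).mem_span hG (hVx x) (show (show Γ(B.toModule, Vx x) from y) ∈ N.mem (Vx x) from hy)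
            exact Algebra.span_le_adjoin _ _ h3
        | zero => exact zero_mem _
        | one => exact one_mem _
        | add a b _ _ ha hb => exact add_mem ha hb
        | neg a _ ha => exact neg_mem ha
        | mul a b _ _ ha hb => exact mul_mem ha hb
      have hint : ∀ b : B.presheaf.obj (op (Vx x)), IsIntegral Γ(Y, Vx x) b := fun b =>
        (IsIntegralHom.isIntegral_app (f := ν) (Vx x) (hVx x)) b
      haveI : Module.Finite Γ(Y, Vx x) A := by
        rw [hA]
        exact Algebra.finite_adjoin_of_finite_of_isIntegral (hTx x).fin fun t _ => hint t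
      exact RingHom.finite_algebraMap.2 ‹Module.Finite Γ(Y, Vx x) A›
    haveI : IsFinite (Spec.map ((genStr B N).app (op U))) := (IsFinite.SpecMap_iff _).2 hfin'
    show IsFinite (Spec.map ((genStr B N).app (op U)) ≫ (Scheme.AffineZariskiSite.restrictIsoSpec Y).inv.app U)
    infer_instance
  -- the map to the glued scheme
  let 𝒰 := (Scheme.AffineZariskiSite.directedCover Y).pullback₁ ν
  have hr : ∀ U : Y.AffineZariskiSite, Set.range (pullback.fst ν U.1.ι) ⊆ Set.range (U.2.preimage ν).fromSpec := by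
    intro U
    rw [Scheme.Pullback.range_fst, Scheme.Opens.range_ι, IsAffineOpen.range_fromSpec]
    rfl
  let incl : ∀ U : Y.AffineZariskiSite, (genFunctor B N).obj (op U) ⟶ Γ(Y', ν ⁻¹ᵁ U.1) := fun U =>
    CommRingCat.ofHom (QCoh.genRing B N U.1).subtype
  let κ : ∀ U : Y.AffineZariskiSite, pullback ν U.1.ι ⟶ d.glued := fun U =>
    IsOpenImmersion.lift (U.2.preimage ν).fromSpec (pullback.fst ν U.1.ι) (hr U) ≫ Spec.map (incl U) ≫
      colimit.ι d.functor U
  let q : Y' ⟶ d.glued := Scheme.OpenCover.glueMorphismsOfLocallyDirected 𝒰 κ (by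
    intro U V i
    have hle : ν ⁻¹ᵁ U.1 ≤ ν ⁻¹ᵁ V.1 :=
      ν.preimage_mono ((Scheme.AffineZariskiSite.toOpens_mono (X := Y)) (leOfHom i))
    let m := pullback.map ν U.1.ι ν V.1.ι (𝟙 Y')
      (Y.homOfLE (((Scheme.AffineZariskiSite.toOpensFunctor Y).map i).le)) (𝟙 Y) (by simp) (by simp)
    change m ≫ κ V = κ U
    have h1 : m ≫ IsOpenImmersion.lift (V.2.preimage ν).fromSpec (pullback.fst ν V.1.ι) (hr V) =
        IsOpenImmersion.lift (U.2.preimage ν).fromSpec (pullback.fst ν U.1.ι) (hr U) ≫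
          Spec.map (Y'.presheaf.map (homOfLE hle).op) := by
      rw [← cancel_mono (V.2.preimage ν).fromSpec, Category.assoc, Category.assoc,
        IsOpenImmersion.lift_fac, IsAffineOpen.map_fromSpec _ (U.2.preimage ν), IsOpenImmersion.lift_fac]
      simp [m]
    show m ≫ IsOpenImmersion.lift _ _ (hr V) ≫ Spec.map (incl V) ≫ colimit.ι d.functor V =
      IsOpenImmersion.lift _ _ (hr U) ≫ Spec.map (incl U) ≫ colimit.ι d.functor U
    rw [reassoc_of% h1, ← colimit.w d.functor i]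
    congr 1
    rw [← Spec.map_comp_assoc]
    show _ = Spec.map (incl U) ≫ Spec.map ((genFunctor B N).map i.op) ≫ colimit.ι d.functor V
    rw [← Spec.map_comp_assoc]
    rfl)
  have hq : ∀ U : Y.AffineZariskiSite, (U.2.preimage ν).fromSpec ≫ q = Spec.map (incl U) ≫ colimit.ι d.functor U := by
    intro U
    let a := IsOpenImmersion.lift (U.2.preimage ν).fromSpec (pullback.fst ν U.1.ι) (hr U)
    haveI : IsIso a := by
      haveI : IsOpenImmersion (a ≫ (U.2.preimage ν).fromSpec) := by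
        rw [IsOpenImmersion.lift_fac]; infer_instance
      haveI : IsOpenImmersion a := IsOpenImmersion.of_comp a (U.2.preimage ν).fromSpec
      refine (isIso_iff_isOpenImmersion_and_surjective _).2 ⟨inferInstance, ⟨fun z => ?_⟩⟩
      obtain ⟨w, hw⟩ : (U.2.preimage ν).fromSpec z ∈ Set.range (pullback.fst ν U.1.ι) := by
        rw [Scheme.Pullback.range_fst, Scheme.Opens.range_ι]
        exact (U.2.preimage ν).range_fromSpec.le ⟨z, rfl⟩
      refine ⟨w, (U.2.preimage ν).fromSpec.isOpenEmbedding.injective ?_⟩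
      rw [← Scheme.Hom.comp_apply, IsOpenImmersion.lift_fac]; exact hw
    rw [← cancel_epi a, ← Category.assoc, IsOpenImmersion.lift_fac]
    change 𝒰.f U ≫ q = κ U
    exact Scheme.OpenCover.map_glueMorphismsOfLocallyDirected 𝒰 κ _ U
  have hqπ : q ≫ d.toBase = ν := by
    refine Scheme.Cover.hom_ext (Y'.openCoverOfIsOpenCover (fun U : Y.AffineZariskiSite => ν ⁻¹ᵁ U.1) ?_) _ _ fun U => ?_
    · refine eq_top_iff.2 fun z _ => ?_
      obtain ⟨U, hU⟩ := Opens.mem_iSup.1 ((iSup_affineOpens_eq_top Y).ge (Set.mem_univ (ν z)))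
      exact Opens.mem_iSup.2 ⟨⟨U.1, U.2⟩, hU⟩
    · show (ν ⁻¹ᵁ U.1).ι ≫ q ≫ d.toBase = (ν ⁻¹ᵁ U.1).ι ≫ ν
      rw [← cancel_epi (U.2.preimage ν).isoSpec.inv, ← Category.assoc, ← Category.assoc _ (Scheme.Opens.ι _) ν]
      show (U.2.preimage ν).fromSpec ≫ q ≫ d.toBase = (U.2.preimage ν).fromSpec ≫ ν
      rw [reassoc_of% (hq U), d.ι_toBase]
      show Spec.map (incl U) ≫ (Spec.map ((genStr B N).app (op U)) ≫ U.2.isoSpec.inv) ≫ U.1.ι = _
      rw [Category.assoc, ← Spec.map_comp_assoc, show (genStr B N).app (op U) ≫ incl U = ν.app U.1 from rfl,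
        Scheme.Hom.app_eq_appLE]
      exact IsAffineOpen.SpecMap_appLE_fromSpec ν U.2 (U.2.preimage ν) le_rfl
  -- locally an open immersion on `O`
  have hopen : ∀ z ∈ O, ∃ (D : Scheme.{u}) (c : D ⟶ Y'), IsOpenImmersion c ∧ z ∈ Set.range c ∧ Set.range c ⊆ O ∧
      IsOpenImmersion (c ≫ q) ∧ (∀ w ∈ O, q w ∈ Set.range (c ≫ q) → w ∈ Set.range c) := by
    intro z hz
    obtain ⟨V, hV, hzV⟩ := Set.mem_iUnion₂.1 (hF (Set.mem_univ (ν z)))
    obtain ⟨g, hg, hzg⟩ := htcov V z hz hzV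
    let U₀ : Y.AffineZariskiSite := ⟨V.1, V.2⟩
    have hW : IsAffineOpen (ν ⁻¹ᵁ V.1) := V.2.preimage ν
    let K : Subring Γ(Y', ν ⁻¹ᵁ V.1) := QCoh.genRing B N V.1
    have hSK : s V g hg ⊆ K := fun b hb =>
      Subring.subset_closure (Or.inr (QCoh.le_sumSub NV ⟨V, hV⟩ _ (hSN ⟨V, hV⟩ (show b ∈ S V from Set.mem_iUnion₂.2 ⟨g, hg, hb⟩))))
    have hgK : g ∈ K := hSK (hgs V g hg)
    letI : Algebra Γ(Y', ν ⁻¹ᵁ V.1) Γ(Y', Y'.basicOpen g) := (Y'.presheaf.map (homOfLE (Y'.basicOpen_le g)).op).hom.toAlgebra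
    haveI hloc := hs V g hg K hSK (fun r => QCoh.str_mem_genRing B N r) hgK
    let ρ : CommRingCat.of K ⟶ Γ(Y', Y'.basicOpen g) :=
      incl U₀ ≫ Y'.presheaf.map (homOfLE (Y'.basicOpen_le g)).op
    haveI : IsOpenImmersion (Spec.map ρ) :=
      IsOpenImmersion.of_isLocalization (R := K) (S := Γ(Y', Y'.basicOpen g)) (⟨g, hgK⟩ : K)
    have hD : IsAffineOpen (Y'.basicOpen g) := hW.basicOpen g
    have hcq : hD.fromSpec ≫ q = Spec.map ρ ≫ colimit.ι d.functor U₀ := by
      show _ = Spec.map (incl U₀ ≫ _) ≫ _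
      rw [Spec.map_comp, Category.assoc, ← hq U₀, ← Category.assoc, IsAffineOpen.map_fromSpec hW hD]
    refine ⟨_, hD.fromSpec, inferInstance, by rw [hD.range_fromSpec]; exact hzg,
      by rw [hD.range_fromSpec]; exact htO V g hg, by rw [hcq]; infer_instance, fun w hw hwq => ?_⟩
    rw [hcq] at hwq
    obtain ⟨p, hp⟩ := hwq
    rw [Scheme.Hom.comp_apply] at hp
    have hwV : w ∈ ν ⁻¹ᵁ V.1 := by
      show ν w ∈ V.1
      rw [← hqπ, Scheme.Hom.comp_apply, ← hp, ← Scheme.Hom.comp_apply, d.ι_toBase, Scheme.Hom.comp_apply]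
      exact ((d.natTrans.app U₀) (Spec.map ρ p)).2
    obtain ⟨w', rfl⟩ : w ∈ Set.range hW.fromSpec := by rw [hW.range_fromSpec]; exact hwV
    have hp2 : colimit.ι d.functor U₀ (Spec.map ρ p) = colimit.ι d.functor U₀ (Spec.map (incl U₀) w') := by
      refine hp.trans ?_
      rw [← Scheme.Hom.comp_apply hW.fromSpec q, hq U₀]
      exact Scheme.Hom.comp_apply _ _ _
    have h2 := (colimit.ι d.functor U₀).isOpenEmbedding.injective hp2
    rw [hD.range_fromSpec]
    show hW.fromSpec w' ∈ Y'.basicOpen g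
    have h3 : (⟨g, hgK⟩ : K) ∉ (Spec.map (incl U₀) w').asIdeal := by
      rw [← h2]
      intro hmem
      exact p.2.ne_top (Ideal.eq_top_of_isUnit_mem _ hmem (IsLocalization.Away.algebraMap_isUnit (⟨g, hgK⟩ : K)))
    have h4 : w' ∈ hW.fromSpec ⁻¹ᵁ Y'.basicOpen g := by
      rw [hW.fromSpec_preimage_basicOpen]
      exact h3
    exact h4
  refine ⟨d.glued, O.ι ≫ q, d.toBase, ?_, hπ, by rw [Category.assoc, hqπ]⟩
  have hinj : Function.Injective (O.ι ≫ q).base := by
    intro a b hab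
    obtain ⟨D, c, hc, hac, hcO, hcq, hback⟩ := hopen a.1 a.2
    have hab' : q a.1 = q b.1 := hab
    obtain ⟨a', ha'⟩ := hac
    obtain ⟨b', hb'⟩ := hback b.1 b.2 ⟨a', by rw [Scheme.Hom.comp_apply, ha', hab']⟩
    have : a' = b' := (c ≫ q).isOpenEmbedding.injective
      (by rw [Scheme.Hom.comp_apply, Scheme.Hom.comp_apply, ha', hb', hab'])
    exact Subtype.ext (by rw [← ha', ← hb', this])
  have hlocal : ∀ a : O, ∃ (D : Scheme.{u}) (c : D ⟶ O.toScheme), IsOpenImmersion c ∧ a ∈ Set.range c ∧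
      IsOpenImmersion (c ≫ O.ι ≫ q) := by
    intro a
    obtain ⟨D, c, hc, ⟨a', ha'⟩, hcO, hcq, -⟩ := hopen a.1 a.2
    let c' := IsOpenImmersion.lift O.ι c (hcO.trans_eq (Scheme.Opens.range_ι O).symm)
    haveI : IsOpenImmersion (c' ≫ O.ι) := by rw [IsOpenImmersion.lift_fac]; infer_instance
    refine ⟨D, c', IsOpenImmersion.of_comp c' O.ι, ⟨a', Subtype.ext ?_⟩, ?_⟩
    · rw [← Scheme.Opens.ι_apply, ← Scheme.Hom.comp_apply, IsOpenImmersion.lift_fac]; exact ha'
    · rw [← Category.assoc, IsOpenImmersion.lift_fac]; exact hcq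
  haveI : ∀ a, IsIso ((O.ι ≫ q).stalkMap a) := by
    intro a
    obtain ⟨D, c, hc, ⟨a', rfl⟩, hcq⟩ := hlocal a
    have h0 : IsIso ((c ≫ O.ι ≫ q).stalkMap a') := inferInstance
    rw [Scheme.Hom.stalkMap_comp] at h0
    exact @IsIso.of_isIso_comp_right _ _ _ _ _ ((O.ι ≫ q).stalkMap (c a')) (c.stalkMap a') inferInstance h0
  refine IsOpenImmersion.of_isIso_stalkMap _ (Topology.IsOpenEmbedding.of_continuous_injective_isOpenMap
    (Scheme.Hom.continuous _) hinj (isOpenMap_iff_nhds_le.2 fun a => ?_))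
  obtain ⟨D, c, hc, ⟨a', rfl⟩, hcq⟩ := hlocal a
  have h1 := (c ≫ O.ι ≫ q).isOpenEmbedding.map_nhds_eq a'
  rw [Scheme.Hom.comp_base, TopCat.coe_comp, ← Filter.map_map] at h1
  exact h1.ge.trans (Filter.map_mono c.continuous.continuousAt)

/-- Separated quasi-finite morphisms of finite type over qcqs schemes are open in finite ones. -/
theorem exists_openImmersion_finite {X S : Scheme.{u}} (f : X ⟶ S) [CompactSpace S] [QuasiSeparatedSpace S]
    [LocallyQuasiFinite f] [LocallyOfFiniteType f] [QuasiCompact f] [IsSeparated f] :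
    ∃ (T : Scheme.{u}) (j : X ⟶ T) (π : T ⟶ S), IsOpenImmersion j ∧ QuasiCompact j ∧ IsFinite π ∧ j ≫ π = f := by
  haveI : CompactSpace X := QuasiCompact.compactSpace_of_compactSpace f
  let e := f.toNormalization.isoOpensRange
  haveI : LocallyOfFiniteType (f.toNormalization.opensRange.ι ≫ f.fromNormalization) := by
    have h : f.toNormalization.opensRange.ι ≫ f.fromNormalization = e.inv ≫ f := by
      rw [Iso.eq_inv_comp, ← Category.assoc, Scheme.Hom.isoOpensRange_hom_ι, Scheme.Hom.toNormalization_fromNormalization]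
    rw [h]; infer_instance
  obtain ⟨T, j, π, hj, hπ, h⟩ := exists_finite_intermediate f.fromNormalization f.toNormalization.opensRange
    (isCompact_range f.toNormalization.continuous)
  have hjπ : (e.hom ≫ j) ≫ π = f := by
    rw [Category.assoc, h, ← Category.assoc, Scheme.Hom.isoOpensRange_hom_ι, Scheme.Hom.toNormalization_fromNormalization]
  haveI : QuasiCompact ((e.hom ≫ j) ≫ π) := by rw [hjπ]; infer_instance
  exact ⟨T, e.hom ≫ j, π, inferInstance, QuasiCompact.of_comp _ π, hπ, hjπ⟩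

end Groth.Agent.LocImmLib
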