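import Groth.Agent.LocImmLib.Spread

set_option backward.isDefEq.respectTransparency false
set_option backward.isDefEq.respectTransparency.types false
set_option linter.style.haveILetI false

universe u

open CategoryTheory AlgebraicGeometry Limits TopologicalSpace

namespace Groth.Agent.LocImmLib

section Pushout

variable {W Y₁ Y₂ : Scheme.{u}} (g₁ : W ⟶ Y₁) (g₂ : W ⟶ Y₂) [IsOpenImmersion g₁] [IsOpenImmersion g₂]

instance : IsOpenImmersion (pushout.inl g₁ g₂) := inferInstanceAs (IsOpenImmersion (colimit.ι _ _))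
instance : IsOpenImmersion (pushout.inr g₁ g₂) := inferInstanceAs (IsOpenImmersion (colimit.ι _ _))

lemma pushout_jointly_surjective (x : (pushout g₁ g₂ : Scheme.{u})) :
    x ∈ Set.range (pushout.inl g₁ g₂) ∨ x ∈ Set.range (pushout.inr g₁ g₂) := by
  obtain ⟨i, y, rfl⟩ := Scheme.IsLocallyDirected.ι_jointly_surjective (span g₁ g₂) x
  rcases i with _ | (_ | _)
  · refine Or.inl ⟨g₁ y, ?_⟩
    rw [← colimit.w (span g₁ g₂) WalkingSpan.Hom.fst]
    rfl
  · exact Or.inl ⟨y, rfl⟩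
  · exact Or.inr ⟨y, rfl⟩

lemma pushout_eq_iff {a : Y₁} {b : Y₂} :
    pushout.inl g₁ g₂ a = pushout.inr g₁ g₂ b ↔ ∃ w, g₁ w = a ∧ g₂ w = b := by
  refine ⟨fun h => ?_, ?_⟩
  · obtain ⟨k, fi, fj, z, hz, hz'⟩ := (Scheme.IsLocallyDirected.ι_eq_ι_iff (span g₁ g₂)).1 h
    rcases k with _ | (_ | _)
    · obtain rfl : fi = WalkingSpan.Hom.fst := Subsingleton.elim _ _
      obtain rfl : fj = WalkingSpan.Hom.snd := Subsingleton.elim _ _
      exact ⟨z, hz, hz'⟩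
    · exact (nomatch fj)
    · exact (nomatch fi)
  · rintro ⟨w, rfl, rfl⟩
    rw [← Scheme.Hom.comp_apply, ← Scheme.Hom.comp_apply, pushout.condition]

/-- two opens glued along `W` are separated when `W` is closed in the product. -/
lemma isSeparated_pushout {S : Scheme.{u}} (p₁ : Y₁ ⟶ S) (p₂ : Y₂ ⟶ S) [IsSeparated p₁] [IsSeparated p₂]
    (w : g₁ ≫ p₁ = g₂ ≫ p₂) (hc : IsClosed (Set.range (pullback.lift g₁ g₂ w))) :
    IsSeparated (pushout.desc p₁ p₂ w) := by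
  let p := pushout.desc p₁ p₂ w
  let ι₁ := pushout.inl g₁ g₂
  let ι₂ := pushout.inr g₁ g₂
  have e₁ : ι₁ ≫ p = p₁ := pushout.inl_desc _ _ _
  have e₂ : ι₂ ≫ p = p₂ := pushout.inr_desc _ _ _
  suffices IsClosed (Set.range (pullback.diagonal p)) from
    ⟨IsClosedImmersion.of_isPreimmersion _ this⟩
  rw [← isOpen_compl_iff, isOpen_iff_forall_mem_open]
  intro d hd
  -- one chart of the product
  have chart : ∀ {A B : Scheme.{u}} (a : A ⟶ pushout g₁ g₂) (b : B ⟶ pushout g₁ g₂) [IsOpenImmersion a] [IsOpenImmersion b]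
      (a' : A ⟶ S) (b' : B ⟶ S) (ha : a ≫ p = a') (hb : b ≫ p = b'),
      (∃ (C : Scheme.{u}) (c : C ⟶ pushout g₁ g₂) (h : C ⟶ pullback a' b'),
        h ≫ pullback.fst a' b' ≫ a = c ∧ h ≫ pullback.snd a' b' ≫ b = c ∧
        Set.range a ∩ Set.range b ⊆ Set.range c ∧ IsClosed (Set.range h)) →
      pullback.fst p p d ∈ Set.range a → pullback.snd p p d ∈ Set.range b →
      ∃ t ⊆ (Set.range (pullback.diagonal p))ᶜ, IsOpen t ∧ d ∈ t := by
    rintro A B a b _ _ a' b' rfl rfl ⟨C, c, h, hh₁, hh₂, hrange, hcl⟩ hA hB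
    let m := pullback.map (a ≫ p) (b ≫ p) p p a b (𝟙 _) (by simp) (by simp)
    refine ⟨m '' (Set.range h)ᶜ, ?_, m.isOpenEmbedding.isOpenMap _ hcl.isOpen_compl, ?_⟩
    · rintro _ ⟨e, he, rfl⟩ ⟨y, hy⟩
      have h1 : pullback.fst p p (m e) = y := by
        rw [← hy, ← Scheme.Hom.comp_apply, pullback.diagonal_fst]; rfl
      have h2 : pullback.snd p p (m e) = y := by
        rw [← hy, ← Scheme.Hom.comp_apply, pullback.diagonal_snd]; rfl
      rw [← Scheme.Hom.comp_apply, pullback.lift_fst, Scheme.Hom.comp_apply] at h1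
      rw [← Scheme.Hom.comp_apply, pullback.lift_snd, Scheme.Hom.comp_apply] at h2
      obtain ⟨z, hz⟩ := hrange ⟨⟨_, h1⟩, ⟨_, h2⟩⟩
      refine he ⟨z, m.isOpenEmbedding.injective ?_⟩
      rw [← hy, ← Scheme.Hom.comp_apply, ← hz, ← Scheme.Hom.comp_apply]
      refine congrArg (fun g : C ⟶ pullback p p => g z) (pullback.hom_ext ?_ ?_)
      · simp [m, hh₁]
      · simp [m, hh₂]
    · obtain ⟨e, rfl⟩ : d ∈ Set.range m := by
        rw [show Set.range m = _ from Scheme.Pullback.range_map ..]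
        exact ⟨hA, hB⟩
      refine ⟨e, ?_, rfl⟩
      rintro ⟨z, rfl⟩
      refine hd ⟨c z, ?_⟩
      rw [← Scheme.Hom.comp_apply, ← Scheme.Hom.comp_apply]
      refine congrArg (fun g : C ⟶ pullback p p => g z) (pullback.hom_ext ?_ ?_)
      · simp [m, hh₁]
      · simp [m, hh₂]
  rcases pushout_jointly_surjective g₁ g₂ (pullback.fst p p d) with hA | hA <;>
    rcases pushout_jointly_surjective g₁ g₂ (pullback.snd p p d) with hB | hB
  · exact chart ι₁ ι₁ p₁ p₁ e₁ e₁ ⟨Y₁, ι₁, pullback.diagonal p₁, by simp, by simp,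
      Set.inter_subset_left, (pullback.diagonal p₁).isClosedEmbedding.isClosed_range⟩ hA hB
  · refine chart ι₁ ι₂ p₁ p₂ e₁ e₂ ⟨W, g₁ ≫ ι₁, pullback.lift g₁ g₂ w, by simp, ?_, ?_, hc⟩ hA hB
    · simp [ι₁, ι₂, pushout.condition]
    · rintro _ ⟨⟨a, rfl⟩, ⟨b, hb⟩⟩
      obtain ⟨v, rfl, -⟩ := (pushout_eq_iff g₁ g₂).1 hb.symm
      exact ⟨v, Scheme.Hom.comp_apply _ _ _⟩
  · refine chart ι₂ ι₁ p₂ p₁ e₂ e₁ ⟨W, g₁ ≫ ι₁, pullback.lift g₁ g₂ w ≫ (pullbackSymmetry p₁ p₂).hom,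
      ?_, ?_, ?_, ?_⟩ hA hB
    · simp [ι₁, ι₂, pushout.condition]
    · simp
    · rintro _ ⟨⟨a, ha⟩, ⟨b, rfl⟩⟩
      obtain ⟨v, rfl, -⟩ := (pushout_eq_iff g₁ g₂).1 ha.symm
      exact ⟨v, Scheme.Hom.comp_apply _ _ _⟩
    · rw [Scheme.Hom.comp_base, TopCat.coe_comp, Set.range_comp]
      exact (pullbackSymmetry p₁ p₂).hom.homeomorph.isClosedMap _ hc
  · exact chart ι₂ ι₂ p₂ p₂ e₂ e₂ ⟨Y₂, ι₂, pullback.diagonal p₂, by simp, by simp,
      Set.inter_subset_left, (pullback.diagonal p₂).isClosedEmbedding.isClosed_range⟩ hA hB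

end Pushout

/-- gluing two factorizations. -/
theorem exists_glue {X U₁ U₂ S Y₁ Y₂ : Scheme.{u}} [IsNoetherian X] [IsNoetherian S] [IsNoetherian Y₁] [IsNoetherian Y₂]
    (f : X ⟶ S) [IsSeparated f] (i₁ : U₁ ⟶ X) (i₂ : U₂ ⟶ X) [IsOpenImmersion i₁] [IsOpenImmersion i₂]
    (hU : ∀ x, x ∈ Set.range i₁ ∨ x ∈ Set.range i₂)
    (k₁ : U₁ ⟶ Y₁) (k₂ : U₂ ⟶ Y₂) (p₁ : Y₁ ⟶ S) (p₂ : Y₂ ⟶ S)
    (hk₁ : LocImm.IsLocImmersion k₁) (hk₂ : LocImm.IsLocImmersion k₂)
    [IsSeparated p₁] [IsSeparated p₂] [LocallyOfFiniteType p₁] [LocallyOfFiniteType p₂]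
    (h₁ : k₁ ≫ p₁ = i₁ ≫ f) (h₂ : k₂ ≫ p₂ = i₂ ≫ f) :
    ∃ (Y : Scheme.{u}) (k : X ⟶ Y) (p : Y ⟶ S), IsNoetherian Y ∧ LocImm.IsLocImmersion k ∧
      IsSeparated p ∧ LocallyOfFiniteType p ∧ QuasiCompact p ∧ k ≫ p = f := by
  haveI := isNoetherian_of_isOpenImmersion i₁
  haveI := isNoetherian_of_isOpenImmersion i₂
  haveI := isPreimmersion hk₁
  haveI := isPreimmersion hk₂
  let U := pullback i₁ i₂
  let a := pullback.fst i₁ i₂
  let b := pullback.snd i₁ i₂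
  haveI : IsNoetherian U := isNoetherian_of_isOpenImmersion a
  have hka := isLocImmersion_comp (isLocImmersion_of_isOpenImmersion a) hk₁
  have hkb := isLocImmersion_comp (isLocImmersion_of_isOpenImmersion b) hk₂
  obtain ⟨W₀, l, c₁, c₂, hl, hc₁, hc₂, hcw, hlc₁, hlc₂, hW₀⟩ := exists_common_open (a ≫ k₁) (b ≫ k₂) p₁ p₂ hka hkb
    (by simp [a, b, h₁, h₂, pullback.condition_assoc])
  -- points of `W₀` over the images come from the overlap
  let W₁ : W₀.Opens := c₁ ⁻¹ᵁ ⟨(closure (k₁ '' (Set.range a)ᶜ))ᶜ, isClosed_closure.isOpen_compl⟩ ⊓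
    c₂ ⁻¹ᵁ ⟨(closure (k₂ '' (Set.range b)ᶜ))ᶜ, isClosed_closure.isOpen_compl⟩
  haveI := isNoetherian_opens W₁
  have hmem : ∀ {V T : Scheme.{u}} (k : V ⟶ T) [IsPreimmersion k] (a : U ⟶ V) [IsOpenImmersion a] (z : U),
      k (a z) ∉ closure (k '' (Set.range a)ᶜ) := by
    intro V T k _ a _ z hz
    have h := k.isEmbedding.closure_eq_preimage_closure_image (Set.range a)ᶜ
    have hz' : a z ∈ closure (Set.range a)ᶜ := by rw [h]; exact hz
    rw [a.isOpenEmbedding.isOpen_range.isClosed_compl.closure_eq] at hz'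
    exact hz' ⟨z, rfl⟩
  have hlW : ∀ z, l z ∈ W₁ := fun z => ⟨by
      change c₁ (l z) ∈ (closure (k₁ '' (Set.range a)ᶜ))ᶜ
      rw [← Scheme.Hom.comp_apply, hlc₁, Scheme.Hom.comp_apply]
      exact hmem k₁ a z, by
      change c₂ (l z) ∈ (closure (k₂ '' (Set.range b)ᶜ))ᶜ
      rw [← Scheme.Hom.comp_apply, hlc₂, Scheme.Hom.comp_apply]
      exact hmem k₂ b z⟩
  let l₁ := IsOpenImmersion.lift W₁.ι l (by rintro _ ⟨z, rfl⟩; rw [Scheme.Opens.range_ι]; exact hlW z)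
  let d₁ := W₁.ι ≫ c₁
  let d₂ := W₁.ι ≫ c₂
  have hl₁ : l₁ ≫ d₁ = a ≫ k₁ := by simp [l₁, d₁, hlc₁]
  have hl₂ : l₁ ≫ d₂ = b ≫ k₂ := by simp [l₁, d₂, hlc₂]
  have hw₁ : d₁ ≫ p₁ = d₂ ≫ p₂ := by simp [d₁, d₂, hcw]
  have hback₁ : ∀ w u₁, d₁ w = k₁ u₁ → ∃ z, w = l₁ z ∧ u₁ = a z := by
    intro w u₁ hu
    have hur : u₁ ∈ Set.range a := by
      by_contra hu'
      have : d₁ w ∉ closure (k₁ '' (Set.range a)ᶜ) := by
        simpa [d₁] using w.2.1
      exact this (subset_closure ⟨u₁, hu', hu.symm⟩)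
    obtain ⟨z, rfl⟩ := hur
    refine ⟨z, d₁.isOpenEmbedding.injective ?_, rfl⟩
    rw [← Scheme.Hom.comp_apply, hl₁, Scheme.Hom.comp_apply]; exact hu
  have hback₂ : ∀ w u₂, d₂ w = k₂ u₂ → ∃ z, w = l₁ z ∧ u₂ = b z := by
    intro w u₁ hu
    have hur : u₁ ∈ Set.range b := by
      by_contra hu'
      have : d₂ w ∉ closure (k₂ '' (Set.range b)ᶜ) := by
        simpa [d₂] using w.2.2
      exact this (subset_closure ⟨u₁, hu', hu.symm⟩)
    obtain ⟨z, rfl⟩ := hur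
    refine ⟨z, d₂.isOpenEmbedding.injective ?_, rfl⟩
    rw [← Scheme.Hom.comp_apply, hl₂, Scheme.Hom.comp_apply]; exact hu
  -- the product and the limit points of `W₁`
  haveI : QuasiCompact p₁ := inferInstance
  haveI : QuasiCompact p₂ := inferInstance
  let P := pullback p₁ p₂
  haveI : CompactSpace P := QuasiCompact.compactSpace_of_compactSpace (pullback.fst p₁ p₂)
  haveI : IsNoetherian P := { }
  let Γ : W₁.toScheme ⟶ P := pullback.lift d₁ d₂ hw₁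
  haveI : IsImmersion (Γ ≫ pullback.fst p₁ p₂) := by simp [Γ]; infer_instance
  haveI : IsImmersion Γ := IsImmersion.of_comp Γ (pullback.fst p₁ p₂)
  let C : Set P := closure (Set.range Γ) \ Set.range Γ
  obtain ⟨O, hO, hOC⟩ : ∃ O : Set P, IsOpen O ∧ closure (Set.range Γ) ∩ O = Set.range Γ := by
    obtain ⟨O, Z, hO, hZ, hOZ⟩ := Γ.isLocallyClosed_range
    exact ⟨O, hO, Set.Subset.antisymm (fun z hz => hOZ.symm ▸ ⟨hz.2, closure_minimal (hOZ ▸ Set.inter_subset_right) hZ hz.1⟩)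
      (fun z hz => ⟨subset_closure hz, (hOZ ▸ hz : z ∈ O ∩ Z).1⟩)⟩
  have hC : IsClosed C := by
    have : C = closure (Set.range Γ) ∩ Oᶜ := by
      ext z
      refine ⟨fun hz => ⟨hz.1, fun h => hz.2 (hOC.le ⟨hz.1, h⟩)⟩, fun hz => ⟨hz.1, fun h => hz.2 (hOC.ge h).2⟩⟩
    rw [this]; exact isClosed_closure.inter hO.isClosed_compl
  haveI : NoetherianSpace C := Topology.IsInducing.noetherianSpace (Topology.IsInducing.subtypeVal)
  haveI : QuasiSober C := (hC.isClosedEmbedding_subtypeVal).quasiSober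
  haveI : IsClosedImmersion (pullback.diagonal f) := inferInstance
  obtain ⟨B₁, B₂, hV₁, hV₂, hV⟩ := exists_avoid (D := C) (fun d => pullback.fst p₁ p₂ d.1)
    (fun d => pullback.snd p₁ p₂ d.1) ((Scheme.Hom.continuous _).comp continuous_subtype_val)
    ((Scheme.Hom.continuous _).comp continuous_subtype_val)
    (Groth.Agent.S18203.result k₁ hk₁).2.1 (Groth.Agent.S18203.result k₂ hk₂).2.1 (by
      rintro ⟨d, hdcl, hdn⟩ ⟨⟨u₁, hu₁⟩, ⟨u₂, hu₂⟩⟩
      obtain ⟨w, hw⟩ : ∃ w : W₁.toScheme, Γ w ⤳ d := by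
        obtain ⟨S', hSf, hSc, hS, hEq⟩ :=
          NoetherianSpace.exists_finite_set_isClosed_irreducible (isClosed_closure (s := Set.range Γ))
        rw [Set.sUnion_eq_biUnion] at hEq
        have key : closure (Set.range Γ) ⊆ ⋃ T ∈ {T ∈ S' | (T ∩ Set.range Γ).Nonempty}, T := by
          refine closure_minimal (fun w hw => ?_) ((hSf.subset (Set.sep_subset _ _)).isClosed_biUnion fun T hT => hSc T hT.1)
          have := subset_closure hw
          rw [hEq, Set.mem_iUnion₂] at this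
          obtain ⟨T, hT, hwT⟩ := this
          exact Set.mem_biUnion ⟨hT, ⟨w, hwT, hw⟩⟩ hwT
        obtain ⟨T, ⟨hT, t, htT, htΓ⟩, hdT⟩ := Set.mem_iUnion₂.1 (key hdcl)
        have hgp := (hS T hT).isGenericPoint_genericPoint (hSc T hT)
        have hη : (hS T hT).genericPoint ∈ Set.range Γ := hOC.le
          ⟨hEq.ge (Set.mem_biUnion hT hgp.mem), (hgp.specializes htT).mem_open hO (hOC.ge htΓ).2⟩
        obtain ⟨w, hw⟩ := hη
        exact ⟨w, hw ▸ hgp.specializes hdT⟩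
      have s₁ : d₁ w ⤳ k₁ u₁ := by
        have := hw.map (pullback.fst p₁ p₂).continuous
        rwa [← hu₁, ← Scheme.Hom.comp_apply, pullback.lift_fst] at this
      have s₂ : d₂ w ⤳ k₂ u₂ := by
        have := hw.map (pullback.snd p₁ p₂).continuous
        rwa [← hu₂, ← Scheme.Hom.comp_apply, pullback.lift_snd] at this
      obtain ⟨u₁', hu₁'⟩ := (Groth.Agent.S18203.result k₁ hk₁).2.1 s₁ ⟨u₁, rfl⟩
      obtain ⟨z, rfl, -⟩ := hback₁ w u₁' hu₁'.symm
      let K := pullback.map (i₁ ≫ f) (i₂ ≫ f) p₁ p₂ k₁ k₂ (𝟙 _) (by simp [h₁]) (by simp [h₂])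
      let m := pullback.map (i₁ ≫ f) (i₂ ≫ f) f f i₁ i₂ (𝟙 _) (by simp) (by simp)
      obtain ⟨q, rfl⟩ : d ∈ Set.range K := by
        rw [show Set.range K = _ from Scheme.Pullback.range_map ..]
        exact ⟨⟨u₁, hu₁⟩, ⟨u₂, hu₂⟩⟩
      haveI : IsPreimmersion K := by
        refine MorphismProperty.pullbackMap (P := @IsPreimmersion) ?_ ?_ ?_ ?_ <;> first | infer_instance | simp [h₁, h₂]
      let δ : U ⟶ pullback (i₁ ≫ f) (i₂ ≫ f) := pullback.lift a b (by simp [a, b, pullback.condition_assoc])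
      have eδ : δ ≫ K = l₁ ≫ Γ := by
        apply pullback.hom_ext
        · simp [δ, K, Γ, hl₁]
        · simp [δ, K, Γ, hl₂]
      have hsp : δ z ⤳ q := by
        rw [← K.isEmbedding.isInducing.specializes_iff, ← Scheme.Hom.comp_apply, eδ, Scheme.Hom.comp_apply]
        exact hw
      have em : δ ≫ m = (a ≫ i₁) ≫ pullback.diagonal f := by
        apply pullback.hom_ext
        · simp [δ, m]
        · simp [δ, m, a, b, pullback.condition]
      obtain ⟨y, hy⟩ : m q ∈ Set.range (pullback.diagonal f) :=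
        (hsp.map m.continuous).mem_closed (pullback.diagonal f).isClosedEmbedding.isClosed_range
          ⟨(a ≫ i₁) z, by rw [← Scheme.Hom.comp_apply, ← em, Scheme.Hom.comp_apply]⟩
      have hy₁ : y ∈ Set.range i₁ := by
        refine ⟨pullback.fst (i₁ ≫ f) (i₂ ≫ f) q, ?_⟩
        have := congrArg (pullback.fst f f) hy
        rw [← Scheme.Hom.comp_apply, pullback.diagonal_fst, ← Scheme.Hom.comp_apply, pullback.lift_fst] at this
        exact (Scheme.Hom.comp_apply _ _ _).symm.trans this.symm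
      have hy₂ : y ∈ Set.range i₂ := by
        refine ⟨pullback.snd (i₁ ≫ f) (i₂ ≫ f) q, ?_⟩
        have := congrArg (pullback.snd f f) hy
        rw [← Scheme.Hom.comp_apply, pullback.diagonal_snd, ← Scheme.Hom.comp_apply, pullback.lift_snd] at this
        exact (Scheme.Hom.comp_apply _ _ _).symm.trans this.symm
      obtain ⟨v, hv⟩ : y ∈ Set.range (a ≫ i₁) := by
        rw [IsOpenImmersion.range_pullback_to_base_of_left]; exact ⟨hy₁, hy₂⟩
      have hq : q = δ v := m.isOpenEmbedding.injective (by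
        rw [← hy, ← hv, ← Scheme.Hom.comp_apply, ← Scheme.Hom.comp_apply δ m, em])
      refine hdn ⟨l₁ v, ?_⟩
      rw [← Scheme.Hom.comp_apply, ← eδ, Scheme.Hom.comp_apply, hq])
  -- shrink
  obtain ⟨V₁, rfl⟩ : ∃ V : Y₁.Opens, V = B₁ := ⟨B₁, rfl⟩
  obtain ⟨V₂, rfl⟩ : ∃ V : Y₂.Opens, V = B₂ := ⟨B₂, rfl⟩
  haveI := isNoetherian_opens (X := Y₁) V₁
  haveI := isNoetherian_opens (X := Y₂) V₂
  let W : W₁.toScheme.Opens := d₁ ⁻¹ᵁ V₁ ⊓ d₂ ⁻¹ᵁ V₂
  let e₁ : W.toScheme ⟶ Scheme.Opens.toScheme (X := Y₁) V₁ := d₁.resLE V₁ W inf_le_left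
  let e₂ : W.toScheme ⟶ Scheme.Opens.toScheme (X := Y₂) V₂ := d₂.resLE V₂ W inf_le_right
  haveI : IsOpenImmersion e₁ := by
    haveI : IsOpenImmersion (e₁ ≫ V₁.ι) := by simp [e₁]; infer_instance
    exact IsOpenImmersion.of_comp e₁ (Scheme.Opens.ι (X := Y₁) V₁)
  haveI : IsOpenImmersion e₂ := by
    haveI : IsOpenImmersion (e₂ ≫ V₂.ι) := by simp [e₂]; infer_instance
    exact IsOpenImmersion.of_comp e₂ (Scheme.Opens.ι (X := Y₂) V₂)
  let q₁ := Scheme.Opens.ι (X := Y₁) V₁ ≫ p₁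
  let q₂ := Scheme.Opens.ι (X := Y₂) V₂ ≫ p₂
  have hw : e₁ ≫ q₁ = e₂ ≫ q₂ := by simp [e₁, e₂, q₁, q₂, hw₁]
  let M := pullback.map q₁ q₂ p₁ p₂ (Scheme.Opens.ι (X := Y₁) V₁) (Scheme.Opens.ι (X := Y₂) V₂) (𝟙 _) (by simp [q₁]) (by simp [q₂])
  have eM : pullback.lift e₁ e₂ hw ≫ M = W.ι ≫ Γ := by
    apply pullback.hom_ext
    · simp [M, Γ, e₁]
    · simp [M, Γ, e₂]
  have hc : IsClosed (Set.range (pullback.lift e₁ e₂ hw)) := by
    have hcl : IsClosed (M ⁻¹' closure (Set.range Γ)) := isClosed_closure.preimage M.continuous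
    convert hcl using 1
    refine Set.Subset.antisymm ?_ fun q hq => ?_
    · rintro _ ⟨w, rfl⟩
      change M _ ∈ closure (Set.range Γ)
      rw [← Scheme.Hom.comp_apply, eM, Scheme.Hom.comp_apply]
      exact subset_closure ⟨_, rfl⟩
    · have h1 : pullback.fst p₁ p₂ (M q) ∈ V₁ := by
        rw [← Scheme.Hom.comp_apply, pullback.lift_fst, Scheme.Hom.comp_apply, Scheme.Opens.ι_apply]
        exact (pullback.fst q₁ q₂ q).2
      have h2 : pullback.snd p₁ p₂ (M q) ∈ V₂ := by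
        rw [← Scheme.Hom.comp_apply, pullback.lift_snd, Scheme.Hom.comp_apply, Scheme.Opens.ι_apply]
        exact (pullback.snd q₁ q₂ q).2
      obtain ⟨w, hw'⟩ : M q ∈ Set.range Γ := by
        by_contra hn
        exact hV ⟨_, hq, hn⟩ ⟨h1, h2⟩
      rw [← hw', ← Scheme.Hom.comp_apply, pullback.lift_fst] at h1
      rw [← hw', ← Scheme.Hom.comp_apply, pullback.lift_snd] at h2
      refine ⟨⟨w, h1, h2⟩, M.isOpenEmbedding.injective ?_⟩
      rw [← Scheme.Hom.comp_apply, eM, ← hw']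
      rfl
  haveI := isSeparated_pushout e₁ e₂ q₁ q₂ hw hc
  let ι₁ := pushout.inl e₁ e₂
  let ι₂ := pushout.inr e₁ e₂
  let Y := pushout e₁ e₂
  let p : Y ⟶ S := pushout.desc q₁ q₂ hw
  haveI : CompactSpace Y := by
    constructor
    have : (Set.univ : Set Y) = Set.range ι₁ ∪ Set.range ι₂ :=
      (Set.eq_univ_of_forall fun x => pushout_jointly_surjective e₁ e₂ x).symm
    rw [this]
    exact (isCompact_range ι₁.continuous).union (isCompact_range ι₂.continuous)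
  haveI : IsLocallyNoetherian Y := by
    let 𝒰 : Y.OpenCover := (Scheme.IsLocallyDirected.openCover (span e₁ e₂))
    haveI : ∀ i, IsLocallyNoetherian (𝒰.X i) := by
      intro i
      rcases i with _ | (_ | _)
      · exact inferInstanceAs (IsLocallyNoetherian W.toScheme)
      · exact inferInstanceAs (IsLocallyNoetherian (Scheme.Opens.toScheme (X := Y₁) V₁))
      · exact inferInstanceAs (IsLocallyNoetherian (Scheme.Opens.toScheme (X := Y₂) V₂))
    exact (isLocallyNoetherian_iff_openCover 𝒰).2 inferInstance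
  haveI : IsNoetherian Y := { }
  have hlft : LocallyOfFiniteType p := by
    refine IsZariskiLocalAtSource.of_openCover (Scheme.IsLocallyDirected.openCover (span e₁ e₂)) fun i => ?_
    rcases i with _ | (_ | _)
    · change LocallyOfFiniteType (colimit.ι (span e₁ e₂) WalkingSpan.zero ≫ p)
      rw [← colimit.w (span e₁ e₂) WalkingSpan.Hom.fst, Category.assoc]
      change LocallyOfFiniteType (e₁ ≫ ι₁ ≫ p)
      rw [pushout.inl_desc]; infer_instance
    · change LocallyOfFiniteType (ι₁ ≫ p)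
      rw [pushout.inl_desc]; infer_instance
    · change LocallyOfFiniteType (ι₂ ≫ p)
      rw [pushout.inr_desc]; infer_instance
  let k₁' := IsOpenImmersion.lift (Scheme.Opens.ι (X := Y₁) V₁) k₁ (by rw [Scheme.Opens.range_ι]; exact hV₁)
  let k₂' := IsOpenImmersion.lift (Scheme.Opens.ι (X := Y₂) V₂) k₂ (by rw [Scheme.Opens.range_ι]; exact hV₂)
  have hlW' : Set.range l₁ ⊆ Set.range W.ι := by
    rintro _ ⟨z, rfl⟩
    rw [Scheme.Opens.range_ι]
    refine ⟨?_, ?_⟩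
    · change d₁ (l₁ z) ∈ V₁
      rw [← Scheme.Hom.comp_apply, hl₁, Scheme.Hom.comp_apply]; exact hV₁ ⟨_, rfl⟩
    · change d₂ (l₁ z) ∈ V₂
      rw [← Scheme.Hom.comp_apply, hl₂, Scheme.Hom.comp_apply]; exact hV₂ ⟨_, rfl⟩
  let l₂ := IsOpenImmersion.lift W.ι l₁ hlW'
  have hov : a ≫ k₁' ≫ ι₁ = b ≫ k₂' ≫ ι₂ := by
    have c1 : a ≫ k₁' = l₂ ≫ e₁ := by
      rw [← cancel_mono (Scheme.Opens.ι (X := Y₁) V₁)]; simp [k₁', l₂, e₁, hl₁]
    have c2 : b ≫ k₂' = l₂ ≫ e₂ := by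
      rw [← cancel_mono (Scheme.Opens.ι (X := Y₂) V₂)]; simp [k₂', l₂, e₂, hl₂]
    rw [reassoc_of% c1, reassoc_of% c2, pushout.condition]
  let Uc : Bool → Scheme.{u} := fun t => Bool.rec U₁ U₂ t
  let 𝒳 : X.OpenCover := Scheme.Cover.mkOfCovers Bool Uc
    (fun t => Bool.rec (motive := fun t => Uc t ⟶ X) i₁ i₂ t)
    (fun x => (hU x).elim (fun ⟨z, hz⟩ => ⟨false, z, hz⟩) (fun ⟨z, hz⟩ => ⟨true, z, hz⟩))
    (fun t => by cases t <;> infer_instance)
  let κ : ∀ t, 𝒳.X t ⟶ Y := fun t => Bool.rec (motive := fun t => Uc t ⟶ Y) (k₁' ≫ ι₁) (k₂' ≫ ι₂) t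
  let k : X ⟶ Y := 𝒳.glueMorphisms κ (by
    rintro (_ | _) (_ | _)
    · change pullback.fst i₁ i₁ ≫ _ = pullback.snd i₁ i₁ ≫ _
      rw [show pullback.fst i₁ i₁ = pullback.snd i₁ i₁ from (cancel_mono i₁).1 pullback.condition]
    · exact hov
    · change pullback.fst i₂ i₁ ≫ k₂' ≫ ι₂ = pullback.snd i₂ i₁ ≫ k₁' ≫ ι₁
      rw [← cancel_epi (pullbackSymmetry i₂ i₁).inv]
      simp only [pullbackSymmetry_inv_comp_fst_assoc, pullbackSymmetry_inv_comp_snd_assoc]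
      exact hov.symm
    · change pullback.fst i₂ i₂ ≫ _ = pullback.snd i₂ i₂ ≫ _
      rw [show pullback.fst i₂ i₂ = pullback.snd i₂ i₂ from (cancel_mono i₂).1 pullback.condition])
  have hk1 : i₁ ≫ k = k₁' ≫ ι₁ := 𝒳.ι_glueMorphisms κ _ false
  have hk2 : i₂ ≫ k = k₂' ≫ ι₂ := 𝒳.ι_glueMorphisms κ _ true
  have hkp : k ≫ p = f := by
    refine 𝒳.hom_ext _ _ fun t => ?_
    cases t
    · change i₁ ≫ k ≫ p = i₁ ≫ f
      rw [reassoc_of% hk1, pushout.inl_desc, ← h₁]; simp [q₁, k₁']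
    · change i₂ ≫ k ≫ p = i₂ ≫ f
      rw [reassoc_of% hk2, pushout.inr_desc, ← h₂]; simp [q₂, k₂']
  have hk₁'l : LocImm.IsLocImmersion k₁' :=
    isLocImmersion_of_comp_isOpenImmersion k₁' (Scheme.Opens.ι (X := Y₁) V₁) (by simpa [k₁'] using hk₁)
  have hk₂'l : LocImm.IsLocImmersion k₂' :=
    isLocImmersion_of_comp_isOpenImmersion k₂' (Scheme.Opens.ι (X := Y₂) V₂) (by simpa [k₂'] using hk₂)
  have hL₁ : LocImm.IsLocImmersion (i₁ ≫ k) := hk1 ▸ isLocImmersion_comp hk₁'l (isLocImmersion_of_isOpenImmersion ι₁)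
  have hL₂ : LocImm.IsLocImmersion (i₂ ≫ k) := hk2 ▸ isLocImmersion_comp hk₂'l (isLocImmersion_of_isOpenImmersion ι₂)
  have hcross : ∀ u₁ u₂, k (i₁ u₁) = k (i₂ u₂) → i₁ u₁ = i₂ u₂ := by
    intro u₁ u₂ he
    rw [← Scheme.Hom.comp_apply, ← Scheme.Hom.comp_apply i₂, hk1, hk2, Scheme.Hom.comp_apply,
      Scheme.Hom.comp_apply] at he
    obtain ⟨w, hwa, hwb⟩ := (pushout_eq_iff e₁ e₂).1 he
    have A₁ : d₁ (W.ι w) = k₁ u₁ := by
      have := congrArg (Scheme.Opens.ι (X := Y₁) V₁) hwa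
      simpa [← Scheme.Hom.comp_apply, e₁, k₁'] using this
    have A₂ : d₂ (W.ι w) = k₂ u₂ := by
      have := congrArg (Scheme.Opens.ι (X := Y₂) V₂) hwb
      simpa [← Scheme.Hom.comp_apply, e₂, k₂'] using this
    obtain ⟨z, hz, rfl⟩ := hback₁ _ _ A₁
    rw [hz, ← Scheme.Hom.comp_apply, hl₂, Scheme.Hom.comp_apply] at A₂
    rw [← k₂.isEmbedding.injective A₂, ← Scheme.Hom.comp_apply, ← Scheme.Hom.comp_apply, pullback.condition]
  have hkinj : Function.Injective k.base := by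
    intro x y hxy
    rcases hU x with ⟨u, rfl⟩ | ⟨u, rfl⟩ <;> rcases hU y with ⟨v, rfl⟩ | ⟨v, rfl⟩
    · exact congrArg i₁ (hL₁.2 ((Scheme.Hom.comp_apply i₁ k u).trans (hxy.trans (Scheme.Hom.comp_apply i₁ k v).symm)))
    · exact hcross u v hxy
    · exact (hcross v u hxy.symm).symm
    · exact congrArg i₂ (hL₂.2 ((Scheme.Hom.comp_apply i₂ k u).trans (hxy.trans (Scheme.Hom.comp_apply i₂ k v).symm)))
  refine ⟨Y, k, p, inferInstance, isLocImmersion_of_cover hkinj fun x => ?_, inferInstance, hlft, inferInstance, hkp⟩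
  rcases hU x with hx | hx
  · exact ⟨U₁, inferInstance, i₁, inferInstance, hx, hL₁⟩
  · exact ⟨U₂, inferInstance, i₂, inferInstance, hx, hL₂⟩

end Groth.Agent.LocImmLib
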