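import Mathlib

namespace Groth.Agent.LocImmLib

open TopologicalSpace

/-- A downward directed family of open sets with empty intersection in a Noetherian quasi-sober space
has an empty member. -/
lemma exists_eq_empty {D ι : Type*} [TopologicalSpace D] [NoetherianSpace D] [QuasiSober D] [Nonempty ι]
    (U : ι → Set D) (ho : ∀ i, IsOpen (U i)) (hd : ∀ i j, ∃ k, U k ⊆ U i ∧ U k ⊆ U j)
    (he : ∀ d, ∃ i, d ∉ U i) : ∃ i, U i = ∅ := by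
  by_contra! hne
  obtain ⟨T, hT, hmin⟩ := (wellFounded_lt (α := Closeds D)).has_min
    {T | ∀ i, ((T : Set D) ∩ U i).Nonempty} ⟨⊤, fun i => by simpa using hne i⟩
  have hirr : IsIrreducible (T : Set D) := by
    refine ⟨(hT (Classical.arbitrary ι)).left, isPreirreducible_iff_isClosed_union_isClosed.2 ?_⟩
    intro A B hA hB hAB
    by_contra! hc
    have hlt : ∀ C : Set D, ∀ hC : IsClosed C, ¬ (T : Set D) ⊆ C →
        ∃ i, (T : Set D) ∩ C ∩ U i = ∅ := by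
      intro C hC hTC
      by_contra! h'
      exact hmin ⟨T ∩ C, T.isClosed.inter hC⟩ h'
        (lt_of_le_of_ne (fun z hz => hz.1) fun h => hTC fun z hz => (h.symm ▸ hz : z ∈ (⟨_, T.isClosed.inter hC⟩ : Closeds D)).2)
    obtain ⟨i, hi⟩ := hlt A hA hc.1
    obtain ⟨j, hj⟩ := hlt B hB hc.2
    obtain ⟨k, hki, hkj⟩ := hd i j
    obtain ⟨z, hzT, hzU⟩ := hT k
    rcases hAB hzT with h | h
    · exact (hi.le ⟨⟨hzT, h⟩, hki hzU⟩).elim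
    · exact (hj.le ⟨⟨hzT, h⟩, hkj hzU⟩).elim
  obtain ⟨i, hi⟩ := he hirr.genericPoint
  obtain ⟨z, hzT, hzU⟩ := hT i
  exact hi (((hirr.isGenericPoint_genericPoint T.isClosed).specializes hzT).mem_open (ho i) hzU)

lemma exists_open_not_mem {A : Type*} [TopologicalSpace A] {G : Set A}
    (hG : StableUnderGeneralization G) {y : A} (hy : y ∉ G) : ∃ U : Set A, IsOpen U ∧ G ⊆ U ∧ y ∉ U :=
  ⟨(closure {y})ᶜ, isClosed_closure.isOpen_compl,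
    fun g hg hgy => hy (hG (specializes_iff_mem_closure.2 hgy) hg), fun h => h (subset_closure rfl)⟩

/-- separate two generalization stable sets away from a Noetherian correspondence. -/
lemma exists_avoid {D A₁ A₂ : Type*} [TopologicalSpace D] [TopologicalSpace A₁] [TopologicalSpace A₂]
    [NoetherianSpace D] [QuasiSober D] (h₁ : D → A₁) (h₂ : D → A₂) (c₁ : Continuous h₁) (c₂ : Continuous h₂)
    {G₁ : Set A₁} {G₂ : Set A₂} (g₁ : StableUnderGeneralization G₁) (g₂ : StableUnderGeneralization G₂)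
    (he : ∀ d, ¬ (h₁ d ∈ G₁ ∧ h₂ d ∈ G₂)) :
    ∃ (V₁ : Opens A₁) (V₂ : Opens A₂), G₁ ⊆ (V₁ : Set A₁) ∧ G₂ ⊆ (V₂ : Set A₂) ∧
      ∀ d, ¬ (h₁ d ∈ V₁ ∧ h₂ d ∈ V₂) := by
  let ι := {p : Opens A₁ × Opens A₂ // G₁ ⊆ (p.1 : Set A₁) ∧ G₂ ⊆ (p.2 : Set A₂)}
  haveI : Nonempty ι := ⟨⟨(⊤, ⊤), by simp⟩⟩
  obtain ⟨⟨⟨V₁, V₂⟩, hV₁, hV₂⟩, he⟩ := exists_eq_empty
    (fun p : ι => h₁ ⁻¹' (p.1.1 : Set A₁) ∩ h₂ ⁻¹' (p.1.2 : Set A₂))
    (fun p => (p.1.1.isOpen.preimage c₁).inter (p.1.2.isOpen.preimage c₂))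
    (fun p q => ⟨⟨(p.1.1 ⊓ q.1.1, p.1.2 ⊓ q.1.2), ⟨fun z hz => ⟨p.2.1 hz, q.2.1 hz⟩, fun z hz => ⟨p.2.2 hz, q.2.2 hz⟩⟩⟩,
      fun z hz => ⟨hz.1.1, hz.2.1⟩, fun z hz => ⟨hz.1.2, hz.2.2⟩⟩)
    (fun d => by
      by_cases h : h₁ d ∈ G₁
      · obtain ⟨U, hU, hGU, hdU⟩ := exists_open_not_mem g₂ (fun h' => he d ⟨h, h'⟩)
        exact ⟨⟨(⊤, ⟨U, hU⟩), ⟨Set.subset_univ _, hGU⟩⟩, fun hz => hdU hz.2⟩
      · obtain ⟨U, hU, hGU, hdU⟩ := exists_open_not_mem g₁ h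
        exact ⟨⟨(⟨U, hU⟩, ⊤), ⟨hGU, Set.subset_univ _⟩⟩, fun hz => hdU hz.1⟩)
  exact ⟨V₁, V₂, hV₁, hV₂, fun d hd => Set.eq_empty_iff_forall_notMem.1 he d hd⟩

end Groth.Agent.LocImmLib
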