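import Groth.Agent.LocImmLib.Basic

set_option backward.isDefEq.respectTransparency false
set_option backward.isDefEq.respectTransparency.types false
set_option linter.style.haveILetI false

universe u

open CategoryTheory AlgebraicGeometry Limits TensorProduct

namespace Groth.Agent.LocImmLib

variable {X Y Y' : Scheme.{u}}

lemma isLocHom_comp_iso {A B C : CommRingCat.{u}} (φ : A ⟶ B) (e : B ≅ C)
    (h : LocImm.IsLocHom φ.hom) : LocImm.IsLocHom (φ ≫ e.hom).hom := by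
  letI := φ.hom.toAlgebra
  obtain ⟨S, hS⟩ := h
  letI := (φ ≫ e.hom).hom.toAlgebra
  exact ⟨S, IsLocalization.isLocalization_of_algEquiv S
    { e.commRingCatIsoToRingEquiv with commutes' := fun r => rfl }⟩

lemma isLocHom_tensor {A B C : Type u} [CommRing A] [CommRing B] [CommRing C] [Algebra A B] [Algebra A C]
    (h : LocImm.IsLocHom (algebraMap A B)) :
    LocImm.IsLocHom (Algebra.TensorProduct.includeRight (R := A) (A := B) (B := C)).toRingHom := by
  obtain ⟨S, hS⟩ := h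
  haveI : IsLocalization S B := by
    convert hS
    exact Algebra.algebra_ext _ _ (fun r => rfl)
  let := (Algebra.TensorProduct.includeRight (R := A) (A := B) (B := C)).toRingHom.toAlgebra
  haveI := IsLocalization.tensorRight (R := A) (S := C) (A := B) S
  exact ⟨Algebra.algebraMapSubmonoid C S, this⟩

lemma appLE_congr' {f g : X ⟶ Y} (h : f = g) {U : Y.Opens} {V : X.Opens} {e : V ≤ f ⁻¹ᵁ U} :
    f.appLE U V e = g.appLE U V (h ▸ e) := by subst h; rfl

lemma isLocalizing_of_chart {f : X ⟶ Y}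
    (h : ∀ x : X, ∃ (U : Y.Opens) (hU : IsAffineOpen U) (D : CommRingCat.{u}) (φ : Γ(Y, U) ⟶ D)
      (j : Spec D ⟶ X), IsOpenImmersion j ∧ x ∈ Set.range j ∧ LocImm.IsLocHom φ.hom ∧
        j ≫ f = Spec.map φ ≫ hU.fromSpec) : LocImm.IsLocalizing f := by
  intro x
  obtain ⟨U, hU, D, φ, j, hj, hx, hφ, hc⟩ := h x
  have hle : j.opensRange ≤ f ⁻¹ᵁ U := by
    rintro _ ⟨q, rfl⟩
    change f (j q) ∈ U
    rw [← Scheme.Hom.comp_apply, hc, Scheme.Hom.comp_apply]
    have h1 : hU.fromSpec (Spec.map φ q) ∈ Set.range hU.fromSpec := ⟨_, rfl⟩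
    rwa [hU.range_fromSpec] at h1
  refine ⟨⟨U, hU⟩, ⟨j.opensRange, isAffineOpen_opensRange j⟩, hx, hle, ?_⟩
  have hjr : (⊤ : (Spec D).Opens) ≤ j ⁻¹ᵁ j.opensRange := fun z _ => ⟨z, rfl⟩
  have key : f.appLE U j.opensRange hle ≫ j.appLE j.opensRange ⊤ hjr =
      φ ≫ (Scheme.ΓSpecIso D).inv := by
    rw [Scheme.Hom.appLE_comp_appLE]
    have hle0 : (⊤ : (Spec Γ(Y, U)).Opens) ≤ hU.fromSpec ⁻¹ᵁ U := by
      intro z _
      change hU.fromSpec z ∈ U
      have h1 : hU.fromSpec z ∈ Set.range hU.fromSpec := ⟨z, rfl⟩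
      rwa [hU.range_fromSpec] at h1
    rw [appLE_congr' hc, ← Scheme.Hom.appLE_comp_appLE (Spec.map φ) hU.fromSpec U ⊤ ⊤ hle0 le_top]
    rw [Scheme.Hom.appLE, hU.fromSpec_app_self]
    simp only [Category.assoc, ← Functor.map_comp_assoc]
    simp [Scheme.Hom.appLE]
  haveI : IsIso (j.appLE j.opensRange ⊤ hjr) := by
    have h1 : j.appLE j.opensRange ⊤ hjr =
        j.app j.opensRange ≫ (Spec D).presheaf.map (eqToHom (j.preimage_opensRange).symm).op := by
      rw [Scheme.Hom.appLE]; congr 2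
    haveI := j.isIso_app j.opensRange le_rfl
    rw [h1]; infer_instance
  have : f.appLE U j.opensRange hle =
      φ ≫ ((Scheme.ΓSpecIso D).symm ≪≫ (asIso (j.appLE j.opensRange ⊤ hjr)).symm).hom := by
    rw [Iso.trans_hom, Iso.symm_hom, Iso.symm_hom, asIso_inv, ← Category.assoc, ← key, Category.assoc,
      IsIso.hom_inv_id, Category.comp_id]
  change LocImm.IsLocHom (f.appLE U j.opensRange hle).hom
  rw [show (f.appLE U j.opensRange hle).hom = _ from congrArg CommRingCat.Hom.hom this]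
  exact isLocHom_comp_iso _ _ hφ

/-- base change of a localizing immersion with affine charts is localizing. -/
lemma isLocalizing_pullback [IsNoetherian X] [IsNoetherian Y] {f : X ⟶ Y} (hf : LocImm.IsLocImmersion f)
    (g : Y' ⟶ Y) : LocImm.IsLocalizing (pullback.snd f g) := by
  refine isLocalizing_of_chart fun p => ?_
  obtain ⟨V, hxV, -, hV, hVp, hφ⟩ := exists_affine hf (pullback.fst f g p) ⊤ trivial
  have hy : g (pullback.snd f g p) ∈ V := by
    rw [← Scheme.Hom.comp_apply, ← pullback.condition, Scheme.Hom.comp_apply]; exact hxV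
  obtain ⟨W, hW, hyW, hWle⟩ := exists_isAffineOpen_mem_and_subset (U := g ⁻¹ᵁ V) hy
  let a : Γ(Y, V) ⟶ Γ(X, f ⁻¹ᵁ V) := f.app V
  let b : Γ(Y, V) ⟶ Γ(Y', W) := g.appLE V W hWle
  letI : Algebra Γ(Y, V) Γ(X, f ⁻¹ᵁ V) := a.hom.toAlgebra
  letI : Algebra Γ(Y, V) Γ(Y', W) := b.hom.toAlgebra
  have e1 : Spec.map (CommRingCat.ofHom (algebraMap Γ(Y, V) Γ(X, f ⁻¹ᵁ V))) ≫ hV.fromSpec = hVp.fromSpec ≫ f := by
    rw [← hV.SpecMap_appLE_fromSpec f hVp le_rfl, ← Scheme.Hom.app_eq_appLE]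
    rfl
  have e2 : Spec.map (CommRingCat.ofHom (algebraMap Γ(Y, V) Γ(Y', W))) ≫ hV.fromSpec = hW.fromSpec ≫ g := by
    rw [← hV.SpecMap_appLE_fromSpec g hW hWle]
    rfl
  let m := pullback.map (Spec.map (CommRingCat.ofHom (algebraMap Γ(Y, V) Γ(X, f ⁻¹ᵁ V))))
    (Spec.map (CommRingCat.ofHom (algebraMap Γ(Y, V) Γ(Y', W)))) f g
    hVp.fromSpec hW.fromSpec hV.fromSpec e1 e2
  let i := pullbackSpecIso Γ(Y, V) Γ(X, f ⁻¹ᵁ V) Γ(Y', W)
  refine ⟨W, hW, CommRingCat.of (Γ(X, f ⁻¹ᵁ V) ⊗[Γ(Y, V)] Γ(Y', W)),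
    CommRingCat.ofHom (Algebra.TensorProduct.includeRight (R := Γ(Y, V))).toRingHom,
    i.inv ≫ m, inferInstance, ?_, isLocHom_tensor hφ, ?_⟩
  · have h1 : p ∈ Set.range m := by
      rw [show Set.range m = _ from Scheme.Pullback.range_map ..]
      refine ⟨?_, ?_⟩ <;> rw [Set.mem_preimage]
      · exact hVp.range_fromSpec.ge hxV
      · exact hW.range_fromSpec.ge hyW
    obtain ⟨q, rfl⟩ := h1
    exact ⟨i.hom q, by rw [← Scheme.Hom.comp_apply, Iso.hom_inv_id_assoc]⟩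
  · rw [Category.assoc, pullback.lift_snd, ← Category.assoc, pullbackSpecIso_inv_snd]
    rfl

end Groth.Agent.LocImmLib
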