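import Groth.Prelude.Def_W4c5cptfessfintypeLocImm
import Groth.Agent.S18203
import Mathlib

set_option backward.isDefEq.respectTransparency false
set_option backward.isDefEq.respectTransparency.types false

set_option linter.style.haveILetI false
universe u

open CategoryTheory AlgebraicGeometry Limits

namespace Groth.Agent.LocImmLib

variable {X Y : Scheme.{u}} {f : X ⟶ Y}

lemma isPreimmersion [IsNoetherian X] [IsNoetherian Y] (hf : LocImm.IsLocImmersion f) :
    IsPreimmersion f := by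
  obtain ⟨he, -, hs⟩ := Groth.Agent.S18203.result f hf
  haveI : SurjectiveOnStalks f := ⟨fun x => by
    haveI := hs x; exact (ConcreteCategory.bijective_of_isIso (f.stalkMap x)).2⟩
  exact ⟨he⟩

lemma mono [IsNoetherian X] [IsNoetherian Y] (hf : LocImm.IsLocImmersion f) : Mono f := by
  haveI := isPreimmersion hf; infer_instance

lemma injective_of_mono (f : X ⟶ Y) [Mono f] : Function.Injective f.base :=
  Scheme.Hom.injective f

lemma isLocImmersion_of_mono (hl : LocImm.IsLocalizing f) [Mono f] : LocImm.IsLocImmersion f :=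
  ⟨hl, injective_of_mono f⟩

/-- stalk maps are flat: a localizing immersion of Noetherian schemes is flat. -/
lemma flat [IsNoetherian X] [IsNoetherian Y] (hf : LocImm.IsLocImmersion f) : Flat f := by
  rw [Flat.iff_flat_stalkMap]
  intro x
  haveI := (Groth.Agent.S18203.result f hf).2.2 x
  exact RingHom.Flat.of_bijective (ConcreteCategory.bijective_of_isIso (f.stalkMap x))

lemma isOpenImmersion_of_isOpen_range [IsNoetherian X] [IsNoetherian Y] (hf : LocImm.IsLocImmersion f)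
    (ho : IsOpen (Set.range f.base)) : IsOpenImmersion f := by
  obtain ⟨he, -, hs⟩ := Groth.Agent.S18203.result f hf
  exact IsOpenImmersion.of_isIso_stalkMap f ⟨he, ho⟩

/-- every neighbourhood contains an affine open with affine preimage and localizing app. -/
lemma exists_affine [IsNoetherian X] [IsNoetherian Y] (hf : LocImm.IsLocImmersion f) (x : X)
    (W : Y.Opens) (hW : f x ∈ W) :
    ∃ V : Y.Opens, f x ∈ V ∧ V ≤ W ∧ IsAffineOpen V ∧ IsAffineOpen (f ⁻¹ᵁ V) ∧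
      LocImm.IsLocHom (f.app V).hom := by
  obtain ⟨he, -, -⟩ := Groth.Agent.S18203.result f hf
  obtain ⟨U, V, hxV, e, hφ⟩ := hf.1 x
  obtain ⟨W', hW'o, hW'⟩ := he.isInducing.isOpen_iff.1 V.1.isOpen
  have hyW' : f x ∈ W' := by
    have : x ∈ (fun z => f z) ⁻¹' W' := by rw [hW']; exact hxV
    exact this
  obtain ⟨a, haW, hya⟩ := U.2.exists_basicOpen_le (V := W ⊓ ⟨W', hW'o⟩) ⟨f x, hW, hyW'⟩ (e hxV)
  refine ⟨Y.basicOpen a, hya, haW.trans inf_le_left, U.2.basicOpen a, ?_⟩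
  have heq : f ⁻¹ᵁ Y.basicOpen a = X.basicOpen ((f.appLE U.1 V.1 e).hom a) := by
    apply le_antisymm
    · intro z hz
      have hzV : z ∈ V.1 := by
        have h1 : z ∈ (fun z => f z) ⁻¹' W' := (haW hz).2
        rw [hW'] at h1
        exact h1
      rw [Scheme.Hom.appLE, CommRingCat.comp_apply, Scheme.basicOpen_res, ← Scheme.preimage_basicOpen]
      exact ⟨hzV, hz⟩
    · rw [Scheme.Hom.appLE, CommRingCat.comp_apply, Scheme.basicOpen_res, ← Scheme.preimage_basicOpen]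
      exact inf_le_right
  refine ⟨heq ▸ V.2.basicOpen _, ?_⟩
  letI := (f.appLE U.1 V.1 e).hom.toAlgebra
  obtain ⟨S, hS⟩ := hφ
  have hB : IsAffineOpen (f ⁻¹ᵁ Y.basicOpen a) := heq ▸ V.2.basicOpen _
  letI : Algebra Γ(Y, U.1) Γ(Y, Y.basicOpen a) :=
    (Y.presheaf.map (homOfLE (Y.basicOpen_le a)).op).hom.toAlgebra
  haveI : IsLocalization.Away a Γ(Y, Y.basicOpen a) := U.2.isLocalization_basicOpen a
  have hle : f ⁻¹ᵁ Y.basicOpen a ≤ V.1 := heq ▸ X.basicOpen_le _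
  letI : Algebra Γ(X, V.1) Γ(X, f ⁻¹ᵁ Y.basicOpen a) :=
    (X.presheaf.map (homOfLE hle).op).hom.toAlgebra
  haveI : IsLocalization.Away ((f.appLE U.1 V.1 e).hom a) Γ(X, f ⁻¹ᵁ Y.basicOpen a) :=
    V.2.isLocalization_of_eq_basicOpen _ (homOfLE hle) heq
  letI : Algebra Γ(Y, U.1) Γ(X, f ⁻¹ᵁ Y.basicOpen a) :=
    ((X.presheaf.map (homOfLE hle).op).hom.comp (f.appLE U.1 V.1 e).hom).toAlgebra
  haveI : IsScalarTower Γ(Y, U.1) Γ(X, V.1) Γ(X, f ⁻¹ᵁ Y.basicOpen a) :=
    IsScalarTower.of_algebraMap_eq (fun _ => rfl)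
  letI : Algebra Γ(Y, Y.basicOpen a) Γ(X, f ⁻¹ᵁ Y.basicOpen a) :=
    (f.app (Y.basicOpen a)).hom.toAlgebra
  haveI : IsScalarTower Γ(Y, U.1) Γ(Y, Y.basicOpen a) Γ(X, f ⁻¹ᵁ Y.basicOpen a) := by
    refine IsScalarTower.of_algebraMap_eq' ?_
    simp only [RingHom.algebraMap_toAlgebra, ← CommRingCat.hom_comp]
    congr 1
    rw [Scheme.Hom.appLE_map, ← Scheme.Hom.appLE_eq_app, Scheme.Hom.map_appLE]
  change ∃ S : Submonoid Γ(Y, Y.basicOpen a), IsLocalization S Γ(X, f ⁻¹ᵁ Y.basicOpen a)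
  obtain ⟨T, hT⟩ : ∃ T : Submonoid Γ(Y, U.1), Submonoid.powers a ≤ T ∧ IsLocalization T Γ(X, f ⁻¹ᵁ Y.basicOpen a) := by
    refine ⟨IsLocalization.localizationLocalizationSubmodule S
      (Submonoid.powers ((f.appLE U.1 V.1 e).hom a)), ?_,
      IsLocalization.localization_localization_isLocalization S (S := Γ(X, V.1)) _ _⟩
    rw [Submonoid.powers_le, IsLocalization.mem_localizationLocalizationSubmodule]
    exact ⟨⟨(f.appLE U.1 V.1 e).hom a, Submonoid.mem_powers _⟩, 1, by simp [RingHom.algebraMap_toAlgebra]⟩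
  haveI := hT.2
  exact ⟨T.map (algebraMap Γ(Y, U.1) Γ(Y, Y.basicOpen a)),
    IsLocalization.isLocalization_of_submonoid_le _ _ _ _ hT.1⟩

lemma isLocImmersion_of_local
    (h : ∀ x : X, ∃ V : Y.Opens, f x ∈ V ∧ IsAffineOpen V ∧ IsAffineOpen (f ⁻¹ᵁ V) ∧
      LocImm.IsLocHom (f.app V).hom) : LocImm.IsLocImmersion f := by
  refine ⟨fun x => ?_, fun a b hab => ?_⟩
  · obtain ⟨V, hxV, hV, hVp, hφ⟩ := h x
    exact ⟨⟨V, hV⟩, ⟨_, hVp⟩, hxV, le_rfl, by rw [← Scheme.Hom.app_eq_appLE]; exact hφ⟩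
  · obtain ⟨V, haV, hV, hVp, hφ⟩ := h a
    have hb : b ∈ f ⁻¹ᵁ V := by
      change f b ∈ V
      rw [show f b = f a from hab.symm]; exact haV
    letI := (f.app V).hom.toAlgebra
    obtain ⟨S, hS⟩ := hφ
    haveI : IsPreimmersion (Spec.map (f.app V)) :=
      IsPreimmersion.of_isLocalization (R := Γ(Y, V)) (S := Γ(X, f ⁻¹ᵁ V)) S
    have e1 := hV.SpecMap_appLE_fromSpec f hVp le_rfl
    rw [← Scheme.Hom.app_eq_appLE] at e1
    haveI : IsPreimmersion (hVp.fromSpec ≫ f) := e1 ▸ inferInstance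
    obtain ⟨p, rfl⟩ : a ∈ Set.range hVp.fromSpec := by rw [hVp.range_fromSpec]; exact haV
    obtain ⟨q, rfl⟩ : b ∈ Set.range hVp.fromSpec := by rw [hVp.range_fromSpec]; exact hb
    rw [(hVp.fromSpec ≫ f).isEmbedding.injective (a₁ := p) (a₂ := q)
      (by rw [Scheme.Hom.comp_apply, Scheme.Hom.comp_apply]; exact hab)]

end Groth.Agent.LocImmLib
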