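import Groth.Agent.LocImmLib.BaseChange

set_option backward.isDefEq.respectTransparency false
set_option backward.isDefEq.respectTransparency.types false
set_option linter.style.haveILetI false

universe u

open CategoryTheory AlgebraicGeometry Limits TopologicalSpace

namespace Groth.Agent.LocImmLib

variable {X Y Z : Scheme.{u}}

lemma isLocHom_bijective {A B : Type u} [CommRing A] [CommRing B] (φ : A →+* B)
    (h : Function.Bijective φ) : LocImm.IsLocHom φ := by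
  letI := φ.toAlgebra
  haveI : IsLocalization (⊥ : Submonoid A) A :=
    IsLocalization.of_le_isUnit (fun x hx => (Submonoid.mem_bot.1 hx) ▸ isUnit_one)
  exact ⟨⊥, IsLocalization.isLocalization_of_algEquiv ⊥ (AlgEquiv.ofBijective (Algebra.ofId A B) h)⟩

lemma isLocHom_comp {A B C : Type u} [CommRing A] [CommRing B] [CommRing C] (φ : A →+* B)
    (ψ : B →+* C) (hφ : LocImm.IsLocHom φ) (hψ : LocImm.IsLocHom ψ) : LocImm.IsLocHom (ψ.comp φ) := by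
  letI := φ.toAlgebra
  obtain ⟨M, hM⟩ := hφ
  letI := ψ.toAlgebra
  obtain ⟨N, hN⟩ := hψ
  letI := (ψ.comp φ).toAlgebra
  haveI : IsScalarTower A B C := IsScalarTower.of_algebraMap_eq (fun _ => rfl)
  exact ⟨_, IsLocalization.localization_localization_isLocalization M (S := B) N C⟩

lemma isLocalizing_of_isOpenImmersion (f : X ⟶ Y) [IsOpenImmersion f] : LocImm.IsLocalizing f := by
  intro x
  obtain ⟨V, hV, hxV, -⟩ := exists_isAffineOpen_mem_and_subset (U := (⊤ : X.Opens)) (x := x) trivial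
  refine ⟨⟨f ''ᵁ V, hV.image_of_isOpenImmersion f⟩, ⟨V, hV⟩, hxV, (f.preimage_image_eq V).ge, ?_⟩
  refine isLocHom_bijective _ ?_
  change Function.Bijective (f.appLE (f ''ᵁ V) V _).hom
  rw [show f.appLE (f ''ᵁ V) V (f.preimage_image_eq V).ge = (f.appIso V).hom from (f.appIso_hom' V).symm]
  exact ConcreteCategory.bijective_of_isIso _

lemma isLocImmersion_of_isOpenImmersion (f : X ⟶ Y) [IsOpenImmersion f] : LocImm.IsLocImmersion f :=
  isLocImmersion_of_mono (isLocalizing_of_isOpenImmersion f)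

/-- The app map at a basic open of a good chart. -/
lemma isLocHom_basicOpen (f : X ⟶ Y) {V : Y.Opens} (hV : IsAffineOpen V)
    (hVp : IsAffineOpen (f ⁻¹ᵁ V)) (h : LocImm.IsLocHom (f.app V).hom) (r : Γ(Y, V)) :
    IsAffineOpen (f ⁻¹ᵁ Y.basicOpen r) ∧ LocImm.IsLocHom (f.app (Y.basicOpen r)).hom := by
  have heq : f ⁻¹ᵁ Y.basicOpen r = X.basicOpen (f.app V r) := Scheme.preimage_basicOpen f r
  have hB : IsAffineOpen (f ⁻¹ᵁ Y.basicOpen r) := heq ▸ hVp.basicOpen _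
  refine ⟨hB, ?_⟩
  have hle : f ⁻¹ᵁ Y.basicOpen r ≤ f ⁻¹ᵁ V := f.preimage_mono (Y.basicOpen_le r)
  letI := (f.app V).hom.toAlgebra
  obtain ⟨S, hS⟩ := h
  letI : Algebra Γ(Y, V) Γ(Y, Y.basicOpen r) :=
    (Y.presheaf.map (homOfLE (Y.basicOpen_le r)).op).hom.toAlgebra
  haveI : IsLocalization.Away r Γ(Y, Y.basicOpen r) := hV.isLocalization_basicOpen r
  letI : Algebra Γ(X, f ⁻¹ᵁ V) Γ(X, f ⁻¹ᵁ Y.basicOpen r) :=
    (X.presheaf.map (homOfLE hle).op).hom.toAlgebra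
  haveI : IsLocalization.Away ((f.app V).hom r) Γ(X, f ⁻¹ᵁ Y.basicOpen r) :=
    hVp.isLocalization_of_eq_basicOpen _ (homOfLE hle) heq
  letI : Algebra Γ(Y, V) Γ(X, f ⁻¹ᵁ Y.basicOpen r) :=
    ((X.presheaf.map (homOfLE hle).op).hom.comp (f.app V).hom).toAlgebra
  haveI : IsScalarTower Γ(Y, V) Γ(X, f ⁻¹ᵁ V) Γ(X, f ⁻¹ᵁ Y.basicOpen r) :=
    IsScalarTower.of_algebraMap_eq (fun _ => rfl)
  letI : Algebra Γ(Y, Y.basicOpen r) Γ(X, f ⁻¹ᵁ Y.basicOpen r) :=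
    (f.app (Y.basicOpen r)).hom.toAlgebra
  haveI : IsScalarTower Γ(Y, V) Γ(Y, Y.basicOpen r) Γ(X, f ⁻¹ᵁ Y.basicOpen r) := by
    refine IsScalarTower.of_algebraMap_eq' ?_
    simp only [RingHom.algebraMap_toAlgebra, ← CommRingCat.hom_comp]
    congr 1
    exact (f.naturality (homOfLE (Y.basicOpen_le r)).op).symm
  change ∃ S : Submonoid Γ(Y, Y.basicOpen r), IsLocalization S Γ(X, f ⁻¹ᵁ Y.basicOpen r)
  obtain ⟨T, hTle, hT⟩ : ∃ T : Submonoid Γ(Y, V), Submonoid.powers r ≤ T ∧ IsLocalization T Γ(X, f ⁻¹ᵁ Y.basicOpen r) := by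
    refine ⟨IsLocalization.localizationLocalizationSubmodule S (Submonoid.powers ((f.app V).hom r)), ?_,
      IsLocalization.localization_localization_isLocalization S (S := Γ(X, f ⁻¹ᵁ V)) _ _⟩
    rw [Submonoid.powers_le, IsLocalization.mem_localizationLocalizationSubmodule]
    exact ⟨⟨(f.app V).hom r, Submonoid.mem_powers _⟩, 1, by simp [RingHom.algebraMap_toAlgebra]⟩
  exact ⟨T.map (algebraMap Γ(Y, V) Γ(Y, Y.basicOpen r)),
    IsLocalization.isLocalization_of_submonoid_le _ _ _ _ hTle⟩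

/-- localizing immersions compose. -/
lemma isLocImmersion_comp [IsNoetherian X] [IsNoetherian Y] [IsNoetherian Z] {f : X ⟶ Y} {g : Y ⟶ Z}
    (hf : LocImm.IsLocImmersion f) (hg : LocImm.IsLocImmersion g) : LocImm.IsLocImmersion (f ≫ g) := by
  refine ⟨fun x => ?_, by rw [Scheme.Hom.comp_base]; exact hg.2.comp hf.2⟩
  obtain ⟨D, hxD, -, hD, hDp, hgφ⟩ := exists_affine hg (f x) ⊤ trivial
  obtain ⟨V, hxV, hVle, hV, hVp, hfφ⟩ := exists_affine hf x (g ⁻¹ᵁ D) hxD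
  obtain ⟨b, b', hbb, hxb⟩ := exists_basicOpen_le_affine_inter hDp hV (f x) ⟨hxD, hxV⟩
  obtain ⟨hA, hφ⟩ := isLocHom_basicOpen f hV hVp hfφ b'
  rw [← hbb] at hA hφ
  refine ⟨⟨D, hD⟩, ⟨f ⁻¹ᵁ Y.basicOpen b, hA⟩, hxb, ?_, ?_⟩
  · exact f.preimage_mono (Y.basicOpen_le b)
  change LocImm.IsLocHom ((f ≫ g).appLE D (f ⁻¹ᵁ Y.basicOpen b) _).hom
  rw [← Scheme.Hom.appLE_comp_appLE f g D (Y.basicOpen b) (f ⁻¹ᵁ Y.basicOpen b) (Y.basicOpen_le b) le_rfl,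
    Scheme.Hom.appLE, ← Scheme.Hom.app_eq_appLE, CommRingCat.hom_comp, CommRingCat.hom_comp]
  refine isLocHom_comp _ _ (isLocHom_comp _ _ hgφ ?_) hφ
  letI : Algebra Γ(Y, g ⁻¹ᵁ D) Γ(Y, Y.basicOpen b) :=
    (Y.presheaf.map (homOfLE (Y.basicOpen_le b)).op).hom.toAlgebra
  exact ⟨Submonoid.powers b, hDp.isLocalization_basicOpen b⟩

lemma isNoetherian_opens [IsNoetherian X] (U : X.Opens) : IsNoetherian U := by
  haveI : CompactSpace U := isCompact_iff_compactSpace.1 (NoetherianSpace.isCompact _)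
  exact { }

lemma isNoetherian_of_isOpenImmersion (f : X ⟶ Y) [IsOpenImmersion f] [IsNoetherian Y] :
    IsNoetherian X := by
  haveI := isLocallyNoetherian_of_isOpenImmersion f
  haveI : NoetherianSpace X := f.isEmbedding.isInducing.noetherianSpace
  exact { }

/-- cancel an open immersion on the right. -/
lemma isLocImmersion_of_comp_isOpenImmersion [IsNoetherian X] [IsNoetherian Z] (f : X ⟶ Y) (g : Y ⟶ Z)
    [IsOpenImmersion g] (h : LocImm.IsLocImmersion (f ≫ g)) : LocImm.IsLocImmersion f := by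
  haveI := mono h
  haveI : Mono f := mono_of_mono f g
  refine isLocImmersion_of_mono fun x => ?_
  obtain ⟨V, hxV, hVle, hV, hVp, hφ⟩ := exists_affine h x g.opensRange ⟨f x, (Scheme.Hom.comp_apply f g x).symm⟩
  have hVg : IsAffineOpen (g ⁻¹ᵁ V) := hV.preimage_of_isOpenImmersion g hVle
  refine ⟨⟨g ⁻¹ᵁ V, hVg⟩, ⟨f ⁻¹ᵁ g ⁻¹ᵁ V, hVp⟩, hxV, le_rfl, ?_⟩
  change LocImm.IsLocHom (f.appLE (g ⁻¹ᵁ V) (f ⁻¹ᵁ g ⁻¹ᵁ V) le_rfl).hom
  rw [← Scheme.Hom.app_eq_appLE]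
  haveI : IsIso (g.app V) := g.isIso_app V hVle
  have h2 : f.app (g ⁻¹ᵁ V) = inv (g.app V) ≫ (f ≫ g).app V := by
    rw [Scheme.Hom.comp_app, IsIso.inv_hom_id_assoc]
  rw [h2, CommRingCat.hom_comp]
  exact isLocHom_comp _ _ (isLocHom_bijective _ (ConcreteCategory.bijective_of_isIso _)) hφ

lemma isLocImmersion_of_cover [IsNoetherian Y] {f : X ⟶ Y} (hinj : Function.Injective f.base)
    (h : ∀ x : X, ∃ (U : Scheme.{u}) (_ : IsNoetherian U) (i : U ⟶ X), IsOpenImmersion i ∧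
      x ∈ Set.range i ∧ LocImm.IsLocImmersion (i ≫ f)) : LocImm.IsLocImmersion f := by
  refine ⟨fun x => ?_, hinj⟩
  obtain ⟨U, hU, i, hi, ⟨z, rfl⟩, hl⟩ := h x
  obtain ⟨V, hzV, -, hV, hVp, hφ⟩ := exists_affine hl z ⊤ trivial
  have hle : i ''ᵁ ((i ≫ f) ⁻¹ᵁ V) ≤ f ⁻¹ᵁ V := by
    rintro _ ⟨w, hw, rfl⟩
    have : (i ≫ f) w ∈ V := hw
    rwa [Scheme.Hom.comp_apply] at this
  have hz : i z ∈ i ''ᵁ ((i ≫ f) ⁻¹ᵁ V) := ⟨z, hzV, rfl⟩
  refine ⟨⟨V, hV⟩, ⟨i ''ᵁ ((i ≫ f) ⁻¹ᵁ V), hVp.image_of_isOpenImmersion i⟩, hz, hle, ?_⟩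
  have h2 : f.appLE V _ hle = (i ≫ f).app V ≫ (i.appIso ((i ≫ f) ⁻¹ᵁ V)).inv := by
    rw [Iso.eq_comp_inv, Scheme.Hom.appIso_hom', Scheme.Hom.appLE_comp_appLE,
      ← Scheme.Hom.app_eq_appLE]
  change LocImm.IsLocHom (f.appLE V _ hle).hom
  rw [h2]
  exact isLocHom_comp_iso _ (i.appIso _).symm hφ

end Groth.Agent.LocImmLib
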