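import Groth.Agent.LocImmLib.Glue
import Groth.Prelude.Def_EssFT
import Mathlib

set_option backward.isDefEq.respectTransparency false
set_option backward.isDefEq.respectTransparency.types false
set_option linter.style.haveILetI false

universe u

open CategoryTheory AlgebraicGeometry Limits TopologicalSpace

namespace Groth.Agent.LocImmLib

lemma isLocImmersion_SpecMap {A B : CommRingCat.{u}} (φ : A ⟶ B) (h : LocImm.IsLocHom φ.hom) :
    LocImm.IsLocImmersion (Spec.map φ) := by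
  haveI : IsPreimmersion (Spec.map φ) := by
    letI := φ.hom.toAlgebra
    obtain ⟨M, hM⟩ := h
    exact IsPreimmersion.of_isLocalization (R := A) (S := B) M
  refine isLocImmersion_of_mono (isLocalizing_of_chart fun x => ⟨⊤, isAffineOpen_top _, B,
    (Scheme.ΓSpecIso A).hom ≫ φ, 𝟙 _, inferInstance, ⟨x, rfl⟩, ?_, ?_⟩)
  · rw [CommRingCat.hom_comp]
    exact isLocHom_comp _ _ (isLocHom_bijective _ (ConcreteCategory.bijective_of_isIso _)) h
  · rw [Category.id_comp, Spec.map_comp, Category.assoc]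
    conv_lhs => rw [← Category.comp_id (Spec.map φ)]
    congr 1
    rw [IsAffineOpen.fromSpec_top, ← Scheme.isoSpec_Spec_hom]
    exact (Spec A).isoSpec.hom_inv_id.symm

/-- Factorisations exist. -/
theorem exists_factor {X S : Scheme.{u}} [IsNoetherian X] [IsNoetherian S] (f : X ⟶ S) [IsSeparated f]
    [EssFT.LocallyEssFiniteType f] :
    ∃ (Y : Scheme.{u}) (k : X ⟶ Y) (p : Y ⟶ S), IsNoetherian Y ∧ LocImm.IsLocImmersion k ∧
      IsSeparated p ∧ LocallyOfFiniteType p ∧ QuasiCompact p ∧ k ≫ p = f := by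
  let Q : X.Opens → Prop := fun O => ∃ (Y : Scheme.{u}) (k : O.toScheme ⟶ Y) (p : Y ⟶ S),
    IsNoetherian Y ∧ LocImm.IsLocImmersion k ∧ IsSeparated p ∧ LocallyOfFiniteType p ∧ QuasiCompact p ∧
      k ≫ p = O.ι ≫ f
  have hsup : ∀ O₁ O₂ : X.Opens, Q O₁ → Q O₂ → Q (O₁ ⊔ O₂) := by
    rintro O₁ O₂ ⟨Y₁, k₁, p₁, hY₁, hk₁, hs₁, hl₁, hq₁, h₁⟩ ⟨Y₂, k₂, p₂, hY₂, hk₂, hs₂, hl₂, hq₂, h₂⟩
    haveI := isNoetherian_opens (O₁ ⊔ O₂)
    refine exists_glue ((O₁ ⊔ O₂).ι ≫ f) (X.homOfLE (le_sup_left : O₁ ≤ O₁ ⊔ O₂))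
      (X.homOfLE (le_sup_right : O₂ ≤ O₁ ⊔ O₂)) (fun x => ?_) k₁ k₂ p₁ p₂ hk₁ hk₂ ?_ ?_
    · rcases x.2 with h | h
      · exact Or.inl ⟨⟨x.1, h⟩, Subtype.ext (by simp)⟩
      · exact Or.inr ⟨⟨x.1, h⟩, Subtype.ext (by simp)⟩
    · rw [h₁, Scheme.homOfLE_ι_assoc]
    · rw [h₂, Scheme.homOfLE_ι_assoc]
  have hbot : Q ⊥ := by
    refine ⟨S, (⊥ : X.Opens).ι ≫ f, 𝟙 S, inferInstance, ?_, inferInstance, inferInstance, inferInstance,
      Category.comp_id _⟩
    exact ⟨fun x => x.2.elim, fun x => x.2.elim⟩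
  have hloc : ∀ x : X, ∃ V : X.Opens, x ∈ V ∧ Q V := by
    intro x
    obtain ⟨U, V, hxV, e, he⟩ := EssFT.LocallyEssFiniteType.exists_appLE_essFiniteType (f := f) x
    let _ : Algebra Γ(S, U.1) Γ(X, V.1) := (f.appLE U.1 V.1 e).hom.toAlgebra
    have : Algebra.EssFiniteType Γ(S, U.1) Γ(X, V.1) := he
    let C := Algebra.EssFiniteType.subalgebra Γ(S, U.1) Γ(X, V.1)
    have : IsNoetherianRing Γ(S, U.1) := IsLocallyNoetherian.component_noetherian U
    have : IsNoetherianRing C := Algebra.FiniteType.isNoetherianRing Γ(S, U.1) C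
    let χ : CommRingCat.of C ⟶ Γ(X, V.1) := CommRingCat.ofHom (algebraMap C Γ(X, V.1))
    let ψ : Γ(S, U.1) ⟶ CommRingCat.of C := CommRingCat.ofHom (algebraMap Γ(S, U.1) C)
    have hχ : LocImm.IsLocHom χ.hom := by
      refine ⟨Algebra.EssFiniteType.submonoid Γ(S, U.1) Γ(X, V.1), ?_⟩
      convert Algebra.EssFiniteType.isLocalization Γ(S, U.1) Γ(X, V.1)
    refine ⟨V.1, hxV, Spec (CommRingCat.of C), V.2.isoSpec.hom ≫ Spec.map χ, Spec.map ψ ≫ U.2.fromSpec,
      inferInstance, ?_, inferInstance, ?_, inferInstance, ?_⟩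
    · haveI := isNoetherian_opens V.1
      haveI : IsNoetherian (Spec Γ(X, V.1)) := by
        haveI := IsLocallyNoetherian.component_noetherian V
        infer_instance
      exact isLocImmersion_comp (isLocImmersion_of_isOpenImmersion _) (isLocImmersion_SpecMap χ hχ)
    · haveI : LocallyOfFiniteType (Spec.map ψ) := (HasRingHomProperty.Spec_iff (P := @LocallyOfFiniteType)).2
        (RingHom.finiteType_algebraMap.2 inferInstance)
      infer_instance
    · rw [Category.assoc, ← Spec.map_comp_assoc,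
        show ψ ≫ χ = f.appLE U.1 V.1 e from CommRingCat.hom_ext (IsScalarTower.algebraMap_eq _ _ _).symm,
        U.2.SpecMap_appLE_fromSpec f V.2 e, IsAffineOpen.isoSpec_hom]
      simp
  choose V hxV hV using hloc
  obtain ⟨T, hT⟩ := isCompact_univ.elim_finite_subcover (fun x => (V x : Set X)) (fun x => (V x).isOpen)
    (fun x _ => Set.mem_iUnion.2 ⟨x, hxV x⟩)
  have hTQ : Q (T.sup V) := Finset.sup_induction hbot (fun a ha b hb => hsup a b ha hb) (fun x _ => hV x)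
  obtain ⟨Y, k, p, hY, hk, hs, hl, hq, hkp⟩ := hTQ
  have htop : T.sup V = ⊤ := by
    rw [eq_top_iff]
    intro x _
    obtain ⟨t, ht, hxt⟩ := Set.mem_iUnion₂.1 (hT (Set.mem_univ x))
    exact (Finset.le_sup ht : V t ≤ T.sup V) hxt
  haveI : IsIso (T.sup V).ι := by
    refine (isIso_iff_isOpenImmersion_and_surjective _).2 ⟨inferInstance, ⟨fun x => ⟨⟨x, ?_⟩, rfl⟩⟩⟩
    rw [htop]; trivial
  haveI := isNoetherian_opens (T.sup V)
  exact ⟨Y, inv (T.sup V).ι ≫ k, p, hY,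
    isLocImmersion_comp (isLocImmersion_of_isOpenImmersion _) hk, hs, hl, hq,
    by rw [Category.assoc, hkp, IsIso.inv_hom_id_assoc]⟩

end Groth.Agent.LocImmLib
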