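import Groth.Agent.LocImmLib.Factor

set_option backward.isDefEq.respectTransparency false
set_option backward.isDefEq.respectTransparency.types false
set_option linter.style.haveILetI false

universe u

open CategoryTheory AlgebraicGeometry Limits

namespace Groth.Agent.LocImmLib

lemma locallyEssFiniteType_of_isLocalizing {X Y : Scheme.{u}} {f : X ⟶ Y} (h : LocImm.IsLocalizing f) :
    EssFT.LocallyEssFiniteType f := by
  refine ⟨fun x => ?_⟩
  obtain ⟨U, V, hx, e, hφ⟩ := h x
  refine ⟨U, V, hx, e, ?_⟩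
  let _ : Algebra Γ(Y, U.1) Γ(X, V.1) := (f.appLE U V e).hom.toAlgebra
  obtain ⟨M, hM⟩ := hφ
  exact RingHom.essFiniteType_algebraMap.2 (Algebra.EssFiniteType.of_isLocalization Γ(X, V.1) M)

instance : MorphismProperty.IsStableUnderComposition @EssFT.LocallyEssFiniteType :=
  HasRingHomProperty.stableUnderComposition
    (RingHom.locally_stableUnderComposition RingHom.EssFiniteType.respectsIso
      RingHom.EssFiniteType.isStableUnderBaseChange.localizationPreserves
      RingHom.EssFiniteType.stableUnderComposition)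

lemma locallyEssFiniteType_of_locallyOfFiniteType {X Y : Scheme.{u}} (f : X ⟶ Y) [LocallyOfFiniteType f] :
    EssFT.LocallyEssFiniteType f := by
  refine ⟨fun x => ?_⟩
  obtain ⟨U, hU, hxU, -⟩ := exists_isAffineOpen_mem_and_subset (U := (⊤ : Y.Opens)) (x := f x) trivial
  obtain ⟨V, hV, hxV, hVU⟩ := exists_isAffineOpen_mem_and_subset (U := f ⁻¹ᵁ U) (x := x) hxU
  refine ⟨⟨U, hU⟩, ⟨V, hV⟩, hxV, hVU, ?_⟩
  exact (f.finiteType_appLE hU hV hVU).essFiniteType

lemma isLocImmersion_fromSpecStalk {X : Scheme.{u}} (x : X) : LocImm.IsLocImmersion (X.fromSpecStalk x) := by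
  obtain ⟨U, hU, hxU, -⟩ := exists_isAffineOpen_mem_and_subset (U := (⊤ : X.Opens)) (x := x) trivial
  refine isLocImmersion_of_mono (isLocalizing_of_chart fun z =>
    ⟨U, hU, X.presheaf.stalk x, X.presheaf.germ U x hxU, 𝟙 _, inferInstance, ⟨z, rfl⟩, ?_, ?_⟩)
  · let _ : Algebra Γ(X, U) (X.presheaf.stalk x) := (X.presheaf.germ U x hxU).hom.toAlgebra
    have := hU.isLocalization_stalk ⟨x, hxU⟩
    exact ⟨(hU.primeIdealOf ⟨x, hxU⟩).asIdeal.primeCompl, this⟩
  · rw [Category.id_comp]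
    exact (hU.fromSpecStalk_eq_fromSpecStalk hxU).symm

instance {X : Scheme.{u}} [IsLocallyNoetherian X] (x : X) : AlgebraicGeometry.IsNoetherian (Spec (X.presheaf.stalk x)) :=
  inferInstance

/-- the class of morphisms to which germs properties apply. -/
lemma essFT_comp {W X Y : Scheme.{u}} [IsNoetherian W] {i : W ⟶ X} (hi : LocImm.IsLocImmersion i)
    (f : X ⟶ Y) [EssFT.LocallyEssFiniteType f] : EssFT.EssFiniteType (i ≫ f) := by
  haveI := locallyEssFiniteType_of_isLocalizing hi.1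
  haveI : EssFT.LocallyEssFiniteType (i ≫ f) := MorphismProperty.comp_mem _ i f inferInstance inferInstance
  exact { }

section

variable (P : MorphismProperty Scheme.{u})
    (hα : ∀ {W X Y : Scheme.{u}} [IsNoetherian W] [IsNoetherian X] [IsNoetherian Y] (i : W ⟶ X) (f : X ⟶ Y)
      [IsSeparated f] [EssFT.EssFiniteType f], LocImm.IsLocImmersion i → P f → P (i ≫ f))

include hα in
lemma stalk_iff {X Y S : Scheme.{u}} [IsNoetherian X] [IsNoetherian Y] [IsNoetherian S] {k : X ⟶ Y}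
    (hk : LocImm.IsLocImmersion k) (p : Y ⟶ S) [IsSeparated p] [EssFT.LocallyEssFiniteType p] (x : X) :
    P (X.fromSpecStalk x ≫ k ≫ p) ↔ P (Y.fromSpecStalk (k x) ≫ p) := by
  haveI := (Groth.Agent.S18203.result k hk).2.2 x
  haveI : IsNoetherian (Spec (X.presheaf.stalk x)) := inferInstance
  haveI : IsNoetherian (Spec (Y.presheaf.stalk (k x))) := inferInstance
  haveI := isPreimmersion hk
  haveI := essFT_comp (isLocImmersion_fromSpecStalk (k x)) p
  let e := Spec.map (k.stalkMap x)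
  have h1 : X.fromSpecStalk x ≫ k ≫ p = e ≫ Y.fromSpecStalk (k x) ≫ p := by
    rw [← Category.assoc, ← Scheme.SpecMap_stalkMap_fromSpecStalk, Category.assoc]
  haveI : IsSeparated (X.fromSpecStalk x ≫ k ≫ p) := inferInstance
  haveI : EssFT.EssFiniteType (X.fromSpecStalk x ≫ k ≫ p) := by
    rw [← Category.assoc]
    exact essFT_comp (isLocImmersion_comp (isLocImmersion_fromSpecStalk x) hk) p
  constructor
  · intro h
    have h2 := hα (inv e) (X.fromSpecStalk x ≫ k ≫ p) (isLocImmersion_of_isOpenImmersion _) h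
    rwa [h1, IsIso.inv_hom_id_assoc] at h2
  · intro h
    rw [h1]
    exact hα e _ (isLocImmersion_of_isOpenImmersion _) h

variable (hβ₁ : ∀ {X Y : Scheme.{u}} [IsNoetherian X] [IsNoetherian Y] (f : X ⟶ Y) [IsSeparated f]
      [LocallyOfFiniteType f], (∀ x : X, P (X.fromSpecStalk x ≫ f)) → P f)
    (hβ₂ : ∀ {X Y : Scheme.{u}} [IsNoetherian X] [IsNoetherian Y] (f : X ⟶ Y) [IsSeparated f]
      [LocallyOfFiniteType f], IsOpen {x : X | P (X.fromSpecStalk x ≫ f)})

include hα hβ₁ hβ₂ in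
theorem germs {X Y : Scheme.{u}} [IsNoetherian X] [IsNoetherian Y] (f : X ⟶ Y) [IsSeparated f] [EssFT.EssFiniteType f] :
    ((∀ x : X, P (X.fromSpecStalk x ≫ f)) → P f) ∧ IsOpen {x : X | P (X.fromSpecStalk x ≫ f)} ∧
      (P f → ∃ (Z : Scheme.{u}) (i : X ⟶ Z) (h : Z ⟶ Y), IsNoetherian Z ∧ LocImm.IsLocImmersion i ∧
        IsSeparated h ∧ LocallyOfFiniteType h ∧ QuasiCompact h ∧ P h ∧ i ≫ h = f) := by
  obtain ⟨Y', k, p, hY, hk, hs, hl, hq, hkp⟩ := exists_factor f
  haveI := locallyEssFiniteType_of_locallyOfFiniteType p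
  have hiff : ∀ x, P (X.fromSpecStalk x ≫ f) ↔ P (Y'.fromSpecStalk (k x) ≫ p) := fun x => by
    rw [← hkp]; exact stalk_iff P hα hk p x
  let O : Y'.Opens := ⟨{y | P (Y'.fromSpecStalk y ≫ p)}, hβ₂ p⟩
  haveI := isNoetherian_opens O
  have hO : P (O.ι ≫ p) := by
    refine hβ₁ (O.ι ≫ p) fun z => ?_
    exact (stalk_iff P hα (isLocImmersion_of_isOpenImmersion O.ι) p z).2 z.2
  have hext : (∀ x, P (X.fromSpecStalk x ≫ f)) → ∃ (Z : Scheme.{u}) (i : X ⟶ Z) (h : Z ⟶ Y), IsNoetherian Z ∧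
      LocImm.IsLocImmersion i ∧ IsSeparated h ∧ LocallyOfFiniteType h ∧ QuasiCompact h ∧ P h ∧ i ≫ h = f := by
    intro h
    let k' := IsOpenImmersion.lift O.ι k (by
      rintro _ ⟨x, rfl⟩; rw [Scheme.Opens.range_ι]; exact (hiff x).1 (h x))
    exact ⟨O, k', O.ι ≫ p, inferInstance, isLocImmersion_of_comp_isOpenImmersion k' O.ι (by simpa [k'] using hk),
      inferInstance, inferInstance, inferInstance, hO, by simp [k', hkp]⟩
  refine ⟨fun h => ?_, ?_, fun h => hext fun x => ?_⟩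
  · obtain ⟨Z, i, g, hZ, hi, hgs, hgl, hgq, hg, rfl⟩ := hext h
    haveI := locallyEssFiniteType_of_locallyOfFiniteType g
    haveI : EssFT.EssFiniteType g := { }
    exact hα i g hi hg
  · simp only [hiff]
    exact (hβ₂ p).preimage k.continuous
  · exact hα _ f (isLocImmersion_fromSpecStalk x) h

end

end Groth.Agent.LocImmLib
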