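import Groth.Agent.LocImmLib.Comp

set_option backward.isDefEq.respectTransparency false
set_option backward.isDefEq.respectTransparency.types false
set_option linter.style.haveILetI false

universe u

open CategoryTheory AlgebraicGeometry

namespace Groth.Agent.LocImmLib

lemma isLocallyNoetherian_of_isLocalizing {X Y : Scheme.{u}} [IsLocallyNoetherian Y] {f : X ⟶ Y}
    (h : LocImm.IsLocalizing f) : IsLocallyNoetherian X := by
  choose U V hxV e hφ using h
  refine isLocallyNoetherian_of_affine_cover (S := V) ?_ fun x => ?_
  · exact eq_top_iff.2 fun x _ => TopologicalSpace.Opens.mem_iSup.2 ⟨x, hxV x⟩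
  · have hφ' := hφ x
    let _ : Algebra Γ(Y, (U x).1) Γ(X, (V x).1) := (f.appLE (U x).1 (V x).1 (e x)).hom.toAlgebra
    obtain ⟨M, hM⟩ := hφ'
    have := IsLocallyNoetherian.component_noetherian (U x)
    exact IsLocalization.isNoetherianRing M Γ(X, (V x).1) inferInstance

end Groth.Agent.LocImmLib
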