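import Groth.Agent.LocImmLib.Basic

set_option backward.isDefEq.respectTransparency false
set_option backward.isDefEq.respectTransparency.types false
set_option linter.style.haveILetI false

universe u

open CategoryTheory AlgebraicGeometry Limits

namespace Groth.Agent.LocImmLib

variable {X Y : Scheme.{u}} {f : X ⟶ Y}

lemma exists_chart (hl : LocImm.IsLocalizing f) (x : X) :
    ∃ (R : CommRingCat.{u}) (i : Spec R ⟶ X), IsOpenImmersion i ∧ x ∈ Set.range i ∧
      IsPreimmersion (i ≫ f) ∧ Flat (i ≫ f) := by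
  obtain ⟨U, V, hxV, e, hφ⟩ := hl x
  letI := (f.appLE U V e).hom.toAlgebra
  obtain ⟨M, hM⟩ := hφ
  have h1 : IsPreimmersion (Spec.map (f.appLE U V e)) :=
    IsPreimmersion.of_isLocalization (R := Γ(Y, U.1)) (S := Γ(X, V.1)) M
  have h2 : Flat (Spec.map (f.appLE U V e)) :=
    (HasRingHomProperty.Spec_iff (P := @Flat)).2 (IsLocalization.flat (Γ(X, V.1)) M)
  have e1 := U.2.SpecMap_appLE_fromSpec f V.2 e
  refine ⟨Γ(X, V.1), V.2.fromSpec, inferInstance, by rw [V.2.range_fromSpec]; exact hxV, ?_, ?_⟩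
  · rw [← e1]; infer_instance
  · rw [← e1]; infer_instance

lemma isIso_stalkMap (hl : LocImm.IsLocalizing f) (x : X) : IsIso (f.stalkMap x) := by
  obtain ⟨R, i, hi, ⟨q, rfl⟩, hpre, hflat⟩ := exists_chart hl x
  have h0 := Groth.Agent.H23.RatExtend.isIso_stalkMap (i ≫ f) q
  rw [Scheme.Hom.stalkMap_comp] at h0
  haveI := h0
  exact @IsIso.of_isIso_comp_right _ _ _ _ _ (f.stalkMap (i q)) (i.stalkMap q) inferInstance h0

lemma exists_section (hl : LocImm.IsLocalizing f) (a : X) (y : Y) (hy : f a = y) :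
    ∃ s : Spec (Y.presheaf.stalk y) ⟶ X, s ≫ f = Y.fromSpecStalk y ∧
      (∀ x' : X, x' ⤳ a → x' ∈ Set.range s) ∧ s (IsLocalRing.closedPoint _) = a ∧
      (∀ q, s q ⤳ a) := by
  subst hy
  haveI := isIso_stalkMap hl a
  refine ⟨Spec.map (inv (f.stalkMap a)) ≫ X.fromSpecStalk a, ?_, ?_, ?_, ?_⟩
  · rw [Category.assoc, ← Scheme.SpecMap_stalkMap_fromSpecStalk, ← Category.assoc, ← Spec.map_comp,
      IsIso.hom_inv_id, Spec.map_id, Category.id_comp]
  · intro x' hx'
    obtain ⟨r, hr⟩ : x' ∈ Set.range (X.fromSpecStalk a) := by rw [Scheme.range_fromSpecStalk]; exact hx'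
    obtain ⟨q, rfl⟩ := (Spec.map (inv (f.stalkMap a))).surjective r
    exact ⟨q, (Scheme.Hom.comp_apply _ _ q).trans hr⟩
  · rw [Scheme.Hom.comp_apply, Spec_closedPoint, Scheme.fromSpecStalk_closedPoint]
  · intro q
    rw [Scheme.Hom.comp_apply]
    exact Scheme.range_fromSpecStalk.le ⟨_, rfl⟩

lemma injective_of_isSeparated (hl : LocImm.IsLocalizing f) [IsSeparated f]
    (hinj : Set.InjOn (fun x => f x) {x : X | ∀ x' : X, x' ⤳ x → x' = x}) :
    Function.Injective f.base := by
  intro a b hab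
  obtain ⟨sa, ha, hga, hca, hsa⟩ := exists_section hl a (f a) rfl
  obtain ⟨sb, hb, hgb, hcb, hsb⟩ := exists_section hl b (f a) hab.symm
  let l : Spec (Y.presheaf.stalk (f a)) ⟶ pullback f f := pullback.lift sa sb (ha.trans hb.symm)
  let e := pullback.fst l (pullback.diagonal f)
  have hc : IsClosed (Set.range e) := e.isClosedEmbedding.isClosed_range
  have hmin : ∀ η : Spec (Y.presheaf.stalk (f a)), (∀ q, q ⤳ η → q = η) → η ∈ Set.range e := by
    intro η hη
    have hmem : ∀ (s : Spec (Y.presheaf.stalk (f a)) ⟶ X) (c : X), s ≫ f = Y.fromSpecStalk (f a) →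
        (∀ x', x' ⤳ c → x' ∈ Set.range s) → s η ⤳ c →
        s η ∈ {x : X | ∀ x' : X, x' ⤳ x → x' = x} := by
      intro s c hs hg hc x' hx'
      obtain ⟨q, rfl⟩ := hg x' (hx'.trans hc)
      rw [hη q]
      refine (Y.fromSpecStalk (f a)).isEmbedding.isInducing.specializes_iff.1 ?_
      rw [← hs, Scheme.Hom.comp_apply, Scheme.Hom.comp_apply]
      exact hx'.map f.continuous
    have heq : sa η = sb η := hinj (hmem sa a ha hga (hsa η)) (hmem sb b hb hgb (hsb η))
      (show f (sa η) = f (sb η) by rw [← Scheme.Hom.comp_apply, ha, ← hb, Scheme.Hom.comp_apply])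
    obtain ⟨R, i, hi, hzi, hpre, -⟩ := exists_chart hl (sa η)
    let π := (Spec (Y.presheaf.stalk (f a))).fromSpecResidueField η
    have hr : ∀ s : Spec (Y.presheaf.stalk (f a)) ⟶ X, s η = sa η → Set.range (π ≫ s) ⊆ Set.range i := by
      rintro s hs _ ⟨q, rfl⟩
      rw [Scheme.Hom.comp_apply, Scheme.fromSpecResidueField_apply, hs]
      exact hzi
    have h1 : π ≫ sa = π ≫ sb := by
      rw [← IsOpenImmersion.lift_fac i (π ≫ sa) (hr sa rfl),
        ← IsOpenImmersion.lift_fac i (π ≫ sb) (hr sb heq.symm)]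
      congr 1
      rw [← cancel_mono (i ≫ f), ← Category.assoc, ← Category.assoc, IsOpenImmersion.lift_fac,
        IsOpenImmersion.lift_fac, Category.assoc, Category.assoc, ha, hb]
    have h2 : π ≫ l = (π ≫ sa) ≫ pullback.diagonal f := by
      apply pullback.hom_ext
      · simp [l]
      · simp [l, h1]
    refine ⟨pullback.lift π (π ≫ sa) h2 default, ?_⟩
    rw [← Scheme.Hom.comp_apply, pullback.lift_fst]
    exact Scheme.fromSpecResidueField_apply _ _
  have hall : ∀ q : Spec (Y.presheaf.stalk (f a)), q ∈ Set.range e := by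
    intro q
    obtain ⟨P, hP, hPq⟩ := Ideal.exists_minimalPrimes_le (J := q.asIdeal) (I := ⊥) bot_le
    let η : Spec (Y.presheaf.stalk (f a)) := ⟨P, hP.1.1⟩
    have hq : η ⤳ q := (PrimeSpectrum.le_iff_specializes η q).1 hPq
    refine hq.mem_closed hc (hmin η fun r hr => ?_)
    have h1 : r.asIdeal ≤ P := (PrimeSpectrum.le_iff_specializes r η).2 hr
    exact PrimeSpectrum.ext (le_antisymm h1 (hP.2 ⟨r.2, bot_le⟩ h1))
  obtain ⟨z, hz⟩ := hall (IsLocalRing.closedPoint _)
  have h3 : sa (e z) = sb (e z) := by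
    have h4 : e ≫ sa = e ≫ sb := by
      have := pullback.condition (f := l) (g := pullback.diagonal f)
      have h5 := congrArg (· ≫ pullback.fst f f) this
      have h6 := congrArg (· ≫ pullback.snd f f) this
      simp [l] at h5 h6
      exact h5.trans h6.symm
    rw [← Scheme.Hom.comp_apply, h4, Scheme.Hom.comp_apply]
  rw [← hca, ← hcb, ← hz]
  exact h3

end Groth.Agent.LocImmLib
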