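import Groth.Agent.LocImmLib.Comp
import Groth.Agent.LocImmLib.Avoid
import Groth.Agent.H23.SpreadFP

set_option backward.isDefEq.respectTransparency false
set_option backward.isDefEq.respectTransparency.types false
set_option linter.style.haveILetI false

universe u

open CategoryTheory AlgebraicGeometry Limits TopologicalSpace

namespace Groth.Agent.LocImmLib

variable {X Y Z : Scheme.{u}}

lemma exists_nhd_isOpenImmersion [IsLocallyNoetherian Y] (p : Z ⟶ Y) [LocallyOfFiniteType p] (z : Z)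
    [IsIso (p.stalkMap z)] : ∃ U : Z.Opens, z ∈ U ∧ IsOpenImmersion (U.ι ≫ p) := by
  obtain ⟨U, hU, V, g, hg, -, h⟩ := Groth.Agent.H23.SpreadFP.spread_out_iso (S := Y) p (𝟙 Y) (x := z)
    (y := p z) rfl (p.stalkMap z) (by
      simp [TopCat.Presheaf.stalkSpecializes_refl, Scheme.Hom.stalkMap_id])
  refine ⟨U, hU, ?_⟩
  rw [← h, Category.comp_id]
  infer_instance

lemma toImage_app_injective' (f : X ⟶ Y) [QuasiCompact f] :
    IsSchemeTheoreticallyDominant f.toImage := by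
  refine ⟨Scheme.IdealSheafData.ext_of_iSup_eq_top
    (fun U : Y.affineOpens => ⟨f.imageι ⁻¹ᵁ U.1, U.2.preimage _⟩) ?_ fun U => ?_⟩
  · rw [eq_top_iff]
    intro z _
    obtain ⟨U, hU, hz, -⟩ := exists_isAffineOpen_mem_and_subset (U := (⊤ : Y.Opens)) (x := f.imageι z) trivial
    exact Opens.mem_iSup.2 ⟨⟨U, hU⟩, hz⟩
  · rw [Scheme.Hom.ker_apply, Scheme.IdealSheafData.ideal_bot, Pi.bot_apply,
      ← RingHom.injective_iff_ker_eq_bot]
    exact f.toImage_app_injective _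

/-- a preimmersion injective on sections is injective on stalks. -/
lemma stalkMap_injective (j : X ⟶ Y) [IsPreimmersion j] [QuasiCompact j] [IsSchemeTheoreticallyDominant j]
    (x : X) : Function.Injective (j.stalkMap x).hom := by
  rw [injective_iff_map_eq_zero]
  intro s hs
  obtain ⟨U, hxU, t, rfl⟩ := TopCat.Presheaf.germ_exist (F := Y.presheaf) s
  rw [show (j.stalkMap x).hom ((Y.presheaf.germ U (j x) hxU).hom t) =
    (X.presheaf.germ (j ⁻¹ᵁ U) x hxU).hom ((j.app U).hom t) from Scheme.Hom.germ_stalkMap_apply j U x hxU t] at hs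
  obtain ⟨V, hxV, i₁, i₂, e⟩ := X.presheaf.germ_eq x hxU hxU ((j.app U).hom t) 0 (hs.trans (map_zero (X.presheaf.germ (j ⁻¹ᵁ U) x hxU).hom).symm)
  obtain ⟨W', hW'o, hW'⟩ := j.isEmbedding.isInducing.isOpen_iff.1 V.isOpen
  let W : Y.Opens := U ⊓ ⟨W', hW'o⟩
  have hxW : j x ∈ W := ⟨hxU, (Set.ext_iff.1 hW' x).2 hxV⟩
  have hle : j ⁻¹ᵁ W ≤ V := fun z hz => (Set.ext_iff.1 hW' z).1 hz.2
  have h0 : (Y.presheaf.map (homOfLE (inf_le_left : W ≤ U)).op).hom t = 0 := by
    apply j.app_injective W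
    rw [map_zero, ← CategoryTheory.comp_apply, j.naturality]
    simp only [map_zero] at e
    change (X.presheaf.map _).hom ((j.app U).hom t) = 0
    refine (congrArg (fun i => (X.presheaf.map i).hom ((j.app U).hom t))
      (Subsingleton.elim _ (i₁.op ≫ (homOfLE hle).op))).trans ?_
    rw [Functor.map_comp, CommRingCat.comp_apply, e, map_zero]
  rw [← Y.presheaf.germ_res_apply (homOfLE (inf_le_left : W ≤ U)) (j x) hxW]
  change (Y.presheaf.germ W (j x) hxW).hom _ = 0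
  rw [h0, map_zero]

lemma mem_range_diagonal {L Y' : Scheme.{u}} (q : L ⟶ Y')
    (hloc : ∀ z : L, ∃ U : L.Opens, z ∈ U ∧ IsOpenImmersion (U.ι ≫ q)) (d : (pullback q q : Scheme.{u}))
    (hd : pullback.fst q q d = pullback.snd q q d) : d ∈ Set.range (pullback.diagonal q) := by
  obtain ⟨U, hU, hU'⟩ := hloc (pullback.fst q q d)
  let m := pullback.map (U.ι ≫ q) (U.ι ≫ q) q q U.ι U.ι (𝟙 _) (by simp) (by simp)
  obtain ⟨e, he⟩ : d ∈ Set.range m := by
    rw [show Set.range m = _ from Scheme.Pullback.range_map ..]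
    simp only [Scheme.Opens.range_ι]
    exact ⟨hU, show pullback.snd q q d ∈ U from hd ▸ hU⟩
  refine ⟨(pullback.fst (U.ι ≫ q) (U.ι ≫ q) ≫ U.ι) e, ?_⟩
  rw [← Scheme.Hom.comp_apply, ← he]
  refine congrArg (fun g : _ ⟶ pullback q q => g e) ?_
  apply pullback.hom_ext
  · simp [m]
  · simp [m]
    rw [show pullback.fst (U.ι ≫ q) (U.ι ≫ q) = pullback.snd (U.ι ≫ q) (U.ι ≫ q) from (cancel_mono (U.ι ≫ q)).1 pullback.condition]

/-- a map that is locally an open immersion is one near a generalization stable set on which it is injective. -/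
lemma exists_open_injective {L Y' X : Scheme.{u}} [IsNoetherian L] [IsNoetherian Y'] (q : L ⟶ Y')
    [LocallyOfFiniteType q] [IsSeparated q]
    (hloc : ∀ z : L, ∃ U : L.Opens, z ∈ U ∧ IsOpenImmersion (U.ι ≫ q))
    (j : X ⟶ L) (g : X ⟶ Y') (hjg : j ≫ q = g) (hemb : Topology.IsEmbedding g.base)
    (hgen : StableUnderGeneralization (Set.range g.base)) :
    ∃ L' : L.Opens, (∀ x, j x ∈ L') ∧ IsOpenImmersion (L'.ι ≫ q) := by
  subst hjg
  have hG : StableUnderGeneralization (Set.range j.base) := by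
    rintro a b hba ⟨x, rfl⟩
    obtain ⟨x', hx'⟩ := hgen (hba.map q.continuous) ⟨x, Scheme.Hom.comp_apply j q x⟩
    obtain ⟨U, hU, hU'⟩ := hloc (j x)
    have hxx : x' ⤳ x := hemb.isInducing.specializes_iff.1 (by
      rw [hx', Scheme.Hom.comp_apply]; exact hba.map q.continuous)
    have hb : b ∈ U := hba.mem_open U.isOpen hU
    have hx'U : j x' ∈ U := (hxx.map j.continuous).mem_open U.isOpen hU
    refine ⟨x', congrArg Subtype.val ((U.ι ≫ q).isOpenEmbedding.injective (a₁ := ⟨j x', hx'U⟩) (a₂ := ⟨b, hb⟩) ?_)⟩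
    change (U.ι ≫ q) _ = (U.ι ≫ q) _
    rw [Scheme.Hom.comp_apply, Scheme.Hom.comp_apply]
    exact (Scheme.Hom.comp_apply j q x').symm.trans hx' 
  let R := pullback q q
  haveI : CompactSpace R := QuasiCompact.compactSpace_of_compactSpace (pullback.fst q q)
  haveI : IsNoetherian R := { }
  let O : R.Opens := ⟨(Set.range (pullback.diagonal q))ᶜ,
    (pullback.diagonal q).isClosedEmbedding.isClosed_range.isOpen_compl⟩
  haveI := isNoetherian_opens O
  obtain ⟨V₁, V₂, hV₁, hV₂, hV⟩ := exists_avoid (D := O.toScheme) (O.ι ≫ pullback.fst q q).base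
    (O.ι ≫ pullback.snd q q).base (Scheme.Hom.continuous _) (Scheme.Hom.continuous _) hG hG
    (fun d ⟨⟨a, ha⟩, ⟨b, hb⟩⟩ => by
      have hab : a = b := hemb.injective (by
        change (j ≫ q) a = (j ≫ q) b
        rw [Scheme.Hom.comp_apply, Scheme.Hom.comp_apply, ha, hb, ← Scheme.Hom.comp_apply,
          ← Scheme.Hom.comp_apply, Category.assoc, Category.assoc, pullback.condition])
      subst hab
      exact d.2 (mem_range_diagonal q hloc d.1 (by
        simp only [Scheme.Hom.comp_apply, Scheme.Opens.ι_apply] at ha hb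
        exact ha.symm.trans hb)))
  refine ⟨V₁ ⊓ V₂, fun x => ⟨hV₁ ⟨x, rfl⟩, hV₂ ⟨x, rfl⟩⟩, ?_⟩
  let L' : L.Opens := V₁ ⊓ V₂
  have hstalk : ∀ z : L, IsIso (q.stalkMap z) := by
    intro z
    obtain ⟨U, hU, hU'⟩ := hloc z
    have h0 : IsIso ((U.ι ≫ q).stalkMap ⟨z, hU⟩) := inferInstance
    rw [Scheme.Hom.stalkMap_comp] at h0
    exact @IsIso.of_isIso_comp_right _ _ _ _ _ (q.stalkMap (U.ι ⟨z, hU⟩)) (U.ι.stalkMap ⟨z, hU⟩) inferInstance h0
  haveI : ∀ z : L', IsIso ((L'.ι ≫ q).stalkMap z) := fun z => by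
    haveI := hstalk (L'.ι z)
    rw [Scheme.Hom.stalkMap_comp]; infer_instance
  refine IsOpenImmersion.of_isIso_stalkMap (L'.ι ≫ q) (Topology.IsOpenEmbedding.of_continuous_injective_isOpenMap
    (Scheme.Hom.continuous _) (fun a b hab => ?_) ?_)
  · by_contra hne
    change (L'.ι ≫ q) a = (L'.ι ≫ q) b at hab
    simp only [Scheme.Hom.comp_apply, Scheme.Opens.ι_apply] at hab
    obtain ⟨d, hd₁, hd₂⟩ := Scheme.Pullback.exists_preimage_pullback (f := q) (g := q) a.1 b.1 hab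
    have hdO : d ∈ O := by
      rintro ⟨c, rfl⟩
      rw [← Scheme.Hom.comp_apply, pullback.diagonal_fst] at hd₁
      rw [← Scheme.Hom.comp_apply, pullback.diagonal_snd] at hd₂
      exact hne (Subtype.ext (hd₁.symm.trans hd₂))
    refine hV ⟨d, hdO⟩ ⟨?_, ?_⟩
    · rw [Scheme.Hom.comp_apply]
      exact hd₁.symm ▸ a.2.1
    · rw [Scheme.Hom.comp_apply]
      exact hd₂.symm ▸ b.2.2
  · haveI : Flat (L'.ι ≫ q) := by
      rw [Flat.iff_flat_stalkMap]
      exact fun z => RingHom.Flat.of_bijective (ConcreteCategory.bijective_of_isIso ((L'.ι ≫ q).stalkMap z))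
    exact (L'.ι ≫ q).isOpenMap

theorem exists_common_open {X Y₁ Y₂ S : Scheme.{u}} [IsNoetherian X] [IsNoetherian Y₁] [IsNoetherian Y₂] [IsNoetherian S]
    (f₁ : X ⟶ Y₁) (f₂ : X ⟶ Y₂) (π₁ : Y₁ ⟶ S) (π₂ : Y₂ ⟶ S)
    (hf₁ : LocImm.IsLocImmersion f₁) (hf₂ : LocImm.IsLocImmersion f₂)
    [IsSeparated π₁] [IsSeparated π₂] [LocallyOfFiniteType π₁] [LocallyOfFiniteType π₂]
    (h : f₁ ≫ π₁ = f₂ ≫ π₂) :
    ∃ (W : Scheme.{u}) (k : X ⟶ W) (g₁ : W ⟶ Y₁) (g₂ : W ⟶ Y₂), LocImm.IsLocImmersion k ∧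
      IsOpenImmersion g₁ ∧ IsOpenImmersion g₂ ∧ g₁ ≫ π₁ = g₂ ≫ π₂ ∧ k ≫ g₁ = f₁ ∧ k ≫ g₂ = f₂ ∧ IsNoetherian W := by
  let P := pullback π₁ π₂
  haveI : CompactSpace P := QuasiCompact.compactSpace_of_compactSpace (pullback.fst π₁ π₂)
  haveI : IsNoetherian P := { }
  let f : X ⟶ P := pullback.lift f₁ f₂ h
  haveI := isPreimmersion hf₁
  haveI : Mono f := by
    haveI : Mono (f ≫ pullback.fst π₁ π₂) := by simp [f]; infer_instance
    exact mono_of_mono f (pullback.fst π₁ π₂)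
  let Z := f.image
  haveI : CompactSpace Z := QuasiCompact.compactSpace_of_compactSpace f.imageι
  haveI : IsLocallyNoetherian Z := LocallyOfFiniteType.isLocallyNoetherian f.imageι
  haveI : IsNoetherian Z := { }
  let p₁ : Z ⟶ Y₁ := f.imageι ≫ pullback.fst π₁ π₂
  let p₂ : Z ⟶ Y₂ := f.imageι ≫ pullback.snd π₁ π₂
  have e₁ : f.toImage ≫ p₁ = f₁ := by simp [p₁, f]
  have e₂ : f.toImage ≫ p₂ = f₂ := by simp [p₂, f]
  haveI : IsPreimmersion f.toImage := by
    have hemb : Topology.IsEmbedding f.toImage := by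
      refine Topology.IsEmbedding.of_comp f.toImage.continuous p₁.continuous ?_
      rw [← TopCat.coe_comp, ← Scheme.Hom.comp_base, e₁]
      exact f₁.isEmbedding
    haveI : SurjectiveOnStalks f.toImage := by
      refine ⟨fun x => ?_⟩
      have h1 : IsPreimmersion (f.toImage ≫ p₁) := by rw [e₁]; infer_instance
      have h2 := (f.toImage ≫ p₁).stalkMap_surjective x
      rw [Scheme.Hom.stalkMap_comp] at h2
      exact Function.Surjective.of_comp h2
    exact ⟨hemb⟩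
  haveI := toImage_app_injective' f
  have hiso : ∀ (Y' : Scheme.{u}) [IsNoetherian Y'] (p : Z ⟶ Y') (g : X ⟶ Y'), LocImm.IsLocImmersion g →
      f.toImage ≫ p = g → ∀ x, IsIso (p.stalkMap (f.toImage x)) := by
    intro Y' _ p g hg e x
    subst e
    haveI := (Groth.Agent.S18203.result _ hg).2.2 x
    have hb := ConcreteCategory.bijective_of_isIso ((f.toImage ≫ p).stalkMap x)
    rw [Scheme.Hom.stalkMap_comp] at hb
    rw [ConcreteCategory.isIso_iff_bijective]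
    change Function.Bijective ((f.toImage.stalkMap x).hom ∘ (p.stalkMap (f.toImage x)).hom) at hb
    refine ⟨Function.Injective.of_comp hb.1, fun s => ?_⟩
    obtain ⟨r, hr⟩ := hb.2 ((f.toImage.stalkMap x).hom s)
    exact ⟨r, stalkMap_injective f.toImage x hr⟩
  let L : Z.Opens := sSup {U : Z.Opens | IsOpenImmersion (U.ι ≫ p₁) ∧ IsOpenImmersion (U.ι ≫ p₂)}
  have hL : ∀ x, f.toImage x ∈ L := by
    intro x
    haveI := hiso Y₁ p₁ f₁ hf₁ e₁ x
    haveI := hiso Y₂ p₂ f₂ hf₂ e₂ x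
    obtain ⟨U, hU, hU'⟩ := exists_nhd_isOpenImmersion p₁ (f.toImage x)
    obtain ⟨V, hV, hV'⟩ := exists_nhd_isOpenImmersion p₂ (f.toImage x)
    refine Opens.mem_sSup.2 ⟨U ⊓ V, ⟨?_, ?_⟩, hU, hV⟩
    · rw [← Scheme.homOfLE_ι Z (inf_le_left : U ⊓ V ≤ U), Category.assoc]; infer_instance
    · rw [← Scheme.homOfLE_ι Z (inf_le_right : U ⊓ V ≤ V), Category.assoc]; infer_instance
  haveI := isNoetherian_opens L
  haveI : LocallyOfFiniteType p₁ := inferInstance
  haveI : LocallyOfFiniteType p₂ := inferInstance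
  have hjL : Set.range f.toImage ⊆ Set.range L.ι := by
    rintro _ ⟨x, rfl⟩; rw [Scheme.Opens.range_ι]; exact hL x
  let j := IsOpenImmersion.lift L.ι f.toImage hjL
  have hj : j ≫ L.ι = f.toImage := IsOpenImmersion.lift_fac _ _ _
  have hcov : ∀ z : L, ∃ U : L.toScheme.Opens, z ∈ U ∧ IsOpenImmersion (U.ι ≫ L.ι ≫ p₁) ∧ IsOpenImmersion (U.ι ≫ L.ι ≫ p₂) := by
    intro z
    obtain ⟨U, ⟨hU₁, hU₂⟩, hzU⟩ := Opens.mem_sSup.1 z.2
    refine ⟨L.ι ⁻¹ᵁ U, hzU, ?_, ?_⟩
    · rw [← Category.assoc, ← morphismRestrict_ι, Category.assoc]; infer_instance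
    · rw [← Category.assoc, ← morphismRestrict_ι, Category.assoc]; infer_instance
  obtain ⟨L₁, hL₁, hi₁⟩ := exists_open_injective (L.ι ≫ p₁)
    (fun z => let ⟨U, hz, h, _⟩ := hcov z; ⟨U, hz, h⟩) j f₁ (by rw [← Category.assoc, hj, e₁])
    f₁.isEmbedding (Groth.Agent.S18203.result f₁ hf₁).2.1
  haveI := isPreimmersion hf₂
  obtain ⟨L₂, hL₂, hi₂⟩ := exists_open_injective (L.ι ≫ p₂)
    (fun z => let ⟨U, hz, _, h⟩ := hcov z; ⟨U, hz, h⟩) j f₂ (by rw [← Category.assoc, hj, e₂])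
    f₂.isEmbedding (Groth.Agent.S18203.result f₂ hf₂).2.1
  let W : L.toScheme.Opens := L₁ ⊓ L₂
  have hkW : Set.range j ⊆ Set.range W.ι := by
    rintro _ ⟨x, rfl⟩; rw [Scheme.Opens.range_ι]; exact ⟨hL₁ x, hL₂ x⟩
  let k := IsOpenImmersion.lift W.ι j hkW
  have ha : k ≫ W.ι ≫ L.ι ≫ p₁ = f₁ := by
    rw [← Category.assoc, IsOpenImmersion.lift_fac, ← Category.assoc, hj, e₁]
  have hb : k ≫ W.ι ≫ L.ι ≫ p₂ = f₂ := by
    rw [← Category.assoc, IsOpenImmersion.lift_fac, ← Category.assoc, hj, e₂]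
  haveI g₁ : IsOpenImmersion (W.ι ≫ L.ι ≫ p₁) := by
    rw [← L.toScheme.homOfLE_ι (inf_le_left : W ≤ L₁), Category.assoc]; infer_instance
  haveI g₂ : IsOpenImmersion (W.ι ≫ L.ι ≫ p₂) := by
    rw [← L.toScheme.homOfLE_ι (inf_le_right : W ≤ L₂), Category.assoc]; infer_instance
  exact ⟨W, k, _, _, isLocImmersion_of_comp_isOpenImmersion k _ (ha.symm ▸ hf₁), g₁, g₂,
    by simp [p₁, p₂, pullback.condition], ha, hb, isNoetherian_opens W⟩

end Groth.Agent.LocImmLib
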