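import Mathlib

namespace Groth.Agent.LocImmLib

open TopologicalSpace

lemma isOpen_of_isClosed_stableUnderGeneralization {α : Type*} [TopologicalSpace α]
    [NoetherianSpace α] [QuasiSober α] {C : Set α} (hC : IsClosed C)
    (hg : StableUnderGeneralization C) : IsOpen C := by
  rw [← isClosed_compl_iff, ← closure_subset_iff_isClosed]
  intro z hz hzC
  obtain ⟨S, hSf, hSc, hS, hEq⟩ :=
    NoetherianSpace.exists_finite_set_isClosed_irreducible (isClosed_closure (s := Cᶜ))
  rw [Set.sUnion_eq_biUnion] at hEq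
  classical
  -- components meeting the open set
  have key : closure Cᶜ ⊆ ⋃ T ∈ {T ∈ S | (T ∩ Cᶜ).Nonempty}, T := by
    refine closure_minimal (fun w hw => ?_) ((hSf.subset (Set.sep_subset _ _)).isClosed_biUnion fun T hT => hSc T hT.1)
    have := subset_closure hw
    rw [hEq, Set.mem_iUnion₂] at this
    obtain ⟨T, hT, hwT⟩ := this
    exact Set.mem_biUnion ⟨hT, ⟨w, hwT, hw⟩⟩ hwT
  have hz' := key hz
  rw [Set.mem_iUnion₂] at hz'
  obtain ⟨T, ⟨hT, t, htT, htC⟩, hzT⟩ := hz'
  have hgp := (hS T hT).isGenericPoint_genericPoint (hSc T hT)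
  exact htC ((hgp.specializes htT).mem_closed hC (hg (hgp.specializes hzT) hzC))

end Groth.Agent.LocImmLib
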